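import Mathlib
import Cfsg.Prelude.Def_Sz
import Cfsg.Agent.Lib.Tw.SuzukiFix

/-!
# The Suzuki groups: lower unipotent subgroup, torus, and Bruhat decomposition

`θ` is the Frobenius power `x ↦ x ^ e` with `e = 2 ^ k` and `(x ^ e) ^ e = x ^ 2`.
-/

set_option autoImplicit false

open scoped Matrix

namespace Cfsg.Agent.SzB

open Cfsg.Agent.SuzukiFix (antiJ)

variable {F : Type*} [Field F]

/-- The hypotheses on the twist. -/
structure Twist (F : Type*) [Field F] where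
  k : ℕ
  e : ℕ
  he : e = 2 ^ k
  hsq : ∀ x : F, (x ^ e) ^ e = x ^ 2

variable [CharP F 2] (τ : Twist F)

/-- the twist as a ring endomorphism -/
def Twist.th : F →+* F := iterateFrobenius F 2 τ.k

theorem Twist.th_apply (x : F) : τ.th x = x ^ τ.e := by
  rw [τ.he]; exact iterateFrobenius_def 2 τ.k x

theorem Twist.th_th (x : F) : τ.th (τ.th x) = x ^ 2 := by
  rw [τ.th_apply, τ.th_apply, τ.hsq]

theorem Twist.th_inj {x : F} (h : τ.th x = 0) : x = 0 := (map_eq_zero τ.th).mp h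

/-- the entry in the corner -/
def corner (a b : F) : F := τ.th b + a ^ 2 * τ.th a + a * b

/-- lower unipotent matrices -/
def lm (a b : F) : Matrix (Fin 4) (Fin 4) F :=
  !![1, 0, 0, 0; a, 1, 0, 0; b, τ.th a, 1, 0; corner τ a b, b + a * τ.th a, a, 1]

theorem lm_mul (a b a' b' : F) :
    lm τ a b * lm τ a' b' = lm τ (a + a') (b + b' + τ.th a * a') := by
  have h2 : (2 : F) = 0 := CharTwo.two_eq_zero
  ext i j
  fin_cases i <;> fin_cases j <;>
    simp [lm, corner, Matrix.mul_apply, Fin.sum_univ_four, map_add, map_mul, τ.th_th]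
  all_goals grind

theorem lm_zero : lm τ 0 0 = 1 := by
  ext i j
  fin_cases i <;> fin_cases j <;> simp [lm, corner]

/-- lower unipotent elements -/
def lg (a b : F) : GL (Fin 4) F :=
  ⟨lm τ a b, lm τ a (b + τ.th a * a), by
    rw [lm_mul, CharTwo.add_self_eq_zero,
      show b + (b + τ.th a * a) + τ.th a * a = (b + b) + (τ.th a * a + τ.th a * a) by ring,
      CharTwo.add_self_eq_zero, CharTwo.add_self_eq_zero, add_zero, lm_zero], by
    rw [lm_mul, CharTwo.add_self_eq_zero,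
      show b + τ.th a * a + b + τ.th a * a = (b + b) + (τ.th a * a + τ.th a * a) by ring,
      CharTwo.add_self_eq_zero, CharTwo.add_self_eq_zero, add_zero, lm_zero]⟩

theorem lg_coe (a b : F) : (lg τ a b : Matrix (Fin 4) (Fin 4) F) = lm τ a b := rfl

theorem lg_mul (a b a' b' : F) : lg τ a b * lg τ a' b' = lg τ (a + a') (b + b' + τ.th a * a') :=
  Units.ext (lm_mul τ a b a' b')

theorem lg_zero : lg τ 0 0 = 1 := Units.ext (lm_zero τ)

theorem lg_mem (a b : F) : lg τ a b ∈ Cfsg.Lie.Sz F τ.e := by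
  have h2 : (2 : F) = 0 := CharTwo.two_eq_zero
  refine Subgroup.subset_closure ⟨fun u v => ?_, ?_⟩
  · simp [lg, lm, corner, Cfsg.Lie.altForm4, Matrix.mulVec, dotProduct, Fin.sum_univ_four]
    grind
  · show Cfsg.Lie.star4 (lm τ a b) = (lm τ a b).map fun x => x ^ τ.e
    rw [show (fun x : F => x ^ τ.e) = fun x => τ.th x from funext fun x => (τ.th_apply x).symm]
    ext i j
    fin_cases i <;> fin_cases j <;>
      simp [lm, corner, Cfsg.Lie.star4, Cfsg.Lie.pairOf, map_add, map_mul, map_pow, τ.th_th]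
    all_goals grind

/-- the antidiagonal element -/
def wg : GL (Fin 4) F :=
  ⟨antiJ, antiJ, Cfsg.Agent.SuzukiFix.antiJ_mul_self, Cfsg.Agent.SuzukiFix.antiJ_mul_self⟩

theorem wg_sq : (wg : GL (Fin 4) F) * wg = 1 := Units.ext Cfsg.Agent.SuzukiFix.antiJ_mul_self

theorem wg_mem : (wg : GL (Fin 4) F) ∈ Cfsg.Lie.Sz F τ.e :=
  Cfsg.Agent.SuzukiFix.antiJ_mem _ (by rw [τ.he]; positivity)

/-- torus matrices -/
def tm (u : Fˣ) : Matrix (Fin 4) (Fin 4) F :=
  Matrix.diagonal ![(u : F), τ.th u / u, u / τ.th u, 1 / (u : F)]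

theorem tm_mul (u v : Fˣ) : tm τ u * tm τ v = tm τ (u * v) := by
  rw [tm, tm, tm, Matrix.diagonal_mul_diagonal]
  congr 1
  ext i
  fin_cases i <;> simp [map_mul, div_eq_mul_inv] <;> ring

theorem tm_one : tm τ 1 = 1 := by
  rw [tm, ← Matrix.diagonal_one]
  congr 1
  ext i
  fin_cases i <;> simp

/-- torus elements -/
def tg : Fˣ →* GL (Fin 4) F :=
  MonoidHom.toHomUnits { toFun := tm τ, map_one' := tm_one τ, map_mul' := fun u v => (tm_mul τ u v).symm }

theorem tg_coe (u : Fˣ) : (tg τ u : Matrix (Fin 4) (Fin 4) F) = tm τ u := rfl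

theorem tg_mem (u : Fˣ) : tg τ u ∈ Cfsg.Lie.Sz F τ.e := by
  have hu : (u : F) ≠ 0 := u.ne_zero
  have ht : τ.th u ≠ 0 := fun h => hu (τ.th_inj h)
  refine Subgroup.subset_closure ⟨fun a b => ?_, ?_⟩
  · simp [tg_coe, tm, Cfsg.Lie.altForm4, Matrix.mulVec_diagonal]
    field_simp
  · show Cfsg.Lie.star4 (tm τ u) = (tm τ u).map fun x => x ^ τ.e
    rw [show (fun x : F => x ^ τ.e) = fun x => τ.th x from funext fun x => (τ.th_apply x).symm]
    ext i j
    fin_cases i <;> fin_cases j <;>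
      simp [tm, Cfsg.Lie.star4, Cfsg.Lie.pairOf, map_div₀, τ.th_th]
    all_goals field_simp

theorem tg_lg (u : Fˣ) (a b : F) :
    tg τ u * lg τ a b * (tg τ u)⁻¹ =
      lg τ (a * τ.th u / (u : F) ^ 2) (b / τ.th u) := by
  have hu : (u : F) ≠ 0 := u.ne_zero
  have ht : τ.th u ≠ 0 := fun h => hu (τ.th_inj h)
  rw [mul_inv_eq_iff_eq_mul]
  apply Units.ext
  rw [Units.val_mul, Units.val_mul, tg_coe, lg_coe, lg_coe]
  ext i j
  fin_cases i <;> fin_cases j <;>
    simp [tm, lm, corner, Matrix.mul_apply, Fin.sum_univ_four, map_mul, map_div₀, map_pow, τ.th_th]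
  all_goals field_simp

theorem wg_tg (u : Fˣ) : wg * tg τ u * wg = (tg τ u)⁻¹ := by
  rw [← map_inv]
  apply Units.ext
  rw [Units.val_mul, Units.val_mul, tg_coe, tg_coe]
  show antiJ * tm τ u * antiJ = tm τ u⁻¹
  ext i j
  fin_cases i <;> fin_cases j <;>
    simp [tm, antiJ, Matrix.mul_apply, Matrix.diagonal, Matrix.vecMul, dotProduct, Matrix.vecHead, Matrix.vecTail]
  all_goals ring

theorem conj_antiJ (X : Matrix (Fin 4) (Fin 4) F) (i j : Fin 4) :
    (antiJ * X * antiJ : Matrix (Fin 4) (Fin 4) F) i j =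
      X (Cfsg.Agent.SuzukiFix.rv i) (Cfsg.Agent.SuzukiFix.rv j) := by
  fin_cases i <;> fin_cases j <;>
    simp [Cfsg.Agent.SuzukiFix.antiJ_apply, Cfsg.Agent.SuzukiFix.rv, Matrix.mul_apply, Fin.sum_univ_four]

/-- first column -/
def col (g : GL (Fin 4) F) : Fin 4 → F := fun i => (g : Matrix (Fin 4) (Fin 4) F) i 0

theorem col_mul (g h : GL (Fin 4) F) :
    col (g * h) = (g : Matrix (Fin 4) (Fin 4) F) *ᵥ col h := by
  funext i
  simp [col, Units.val_mul, Matrix.mul_apply, Matrix.mulVec, dotProduct]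

theorem col_ne (g : GL (Fin 4) F) : col g ≠ 0 := by
  intro h
  have h1 : ((g⁻¹ * g : GL (Fin 4) F) : Matrix (Fin 4) (Fin 4) F) 0 0 = 1 := by
    rw [inv_mul_cancel]; rfl
  rw [Units.val_mul, Matrix.mul_apply] at h1
  simp [fun i => show (g : Matrix (Fin 4) (Fin 4) F) i 0 = 0 from congrFun h i] at h1

/-- the facts used about a member -/
theorem mem_facts {g : GL (Fin 4) F} (hg : g ∈ Cfsg.Lie.Sz F τ.e) :
    (g : Matrix (Fin 4) (Fin 4) F)ᵀ * antiJ * (g : Matrix (Fin 4) (Fin 4) F) = antiJ ∧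
      ∀ p r, Cfsg.Lie.star4 (g : Matrix (Fin 4) (Fin 4) F) p r =
        τ.th ((g : Matrix (Fin 4) (Fin 4) F) p r) := by
  obtain ⟨h1, h2⟩ := Cfsg.Agent.SuzukiFix.star4_eq_of_mem τ.k τ.he hg
  exact ⟨h1, fun p r => by rw [h2, Matrix.map_apply, τ.th_apply]⟩

theorem form_col {g : Matrix (Fin 4) (Fin 4) F} (h : gᵀ * antiJ * g = antiJ) (i j : Fin 4) :
    g 0 i * g 3 j + g 1 i * g 2 j + g 2 i * g 1 j + g 3 i * g 0 j = antiJ i j := by
  have h1 := congrFun (congrFun h i) j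
  simp [Matrix.mul_apply, Fin.sum_univ_four, antiJ] at h1 ⊢
  linear_combination h1

/-- The first column spans a point of the ovoid. -/
theorem col_on_ovoid {g : GL (Fin 4) F} (hg : g ∈ Cfsg.Lie.Sz F τ.e) :
    (col g 0 = 0 ∧ col g 1 = 0 ∧ col g 2 = 0) ∨
      (col g 0 ≠ 0 ∧ ∃ a b : F, ∀ i, col g i = col g 0 * lm τ a b i 0) := by
  have h2 : (2 : F) = 0 := CharTwo.two_eq_zero
  obtain ⟨hJ, hs⟩ := mem_facts τ hg
  set M := (g : Matrix (Fin 4) (Fin 4) F) with hM
  have s0 := hs 0 0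
  have s1 := hs 1 0
  have s2 := hs 2 0
  have s3 := hs 3 0
  simp [Cfsg.Lie.star4, Cfsg.Lie.pairOf] at s0 s1 s2 s3
  have hf := form_col hJ 0 1
  simp [antiJ] at hf
  show (M 0 0 = 0 ∧ M 1 0 = 0 ∧ M 2 0 = 0) ∨ (M 0 0 ≠ 0 ∧ ∃ a b : F, ∀ i, M i 0 = M 0 0 * lm τ a b i 0)
  by_cases h0 : M 0 0 = 0
  · left
    rw [h0, map_zero] at s0
    rw [h0] at s1 hf
    simp only [zero_mul, zero_sub, zero_add] at s0 s1 hf
    have h10 : τ.th (M 1 0) * M 1 0 = 0 := by linear_combination (-(M 1 0)) * s1 + (M 2 0) * s0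
    have h1 : M 1 0 = 0 := by
      rcases mul_eq_zero.mp h10 with h | h
      · exact τ.th_inj h
      · exact h
    refine ⟨h0, h1, ?_⟩
    simp only [h1, zero_mul, zero_sub, zero_add, map_zero, neg_eq_zero, mul_eq_zero] at s2 s3 hf s0 s1
    by_contra h2'
    have hth : τ.th (M 2 0) ≠ 0 := fun h => h2' (τ.th_inj h)
    have hM01 : M 0 1 = 0 := by
      rcases s1 with h | h
      · exact absurd h h2'
      · exact h
    have h11 : M 2 0 * M 1 1 = 0 := by rw [hM01] at hf; linear_combination hf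
    rcases mul_eq_zero.mp h11 with h | h
    · exact h2' h
    · rw [h] at s2
      simp at s2
      exact hth s2.symm
  · right
    refine ⟨h0, M 1 0 / M 0 0, M 2 0 / M 0 0, ?_⟩
    set P := M 0 0 * M 3 1 - M 0 1 * M 3 0 with hP
    have e013 : M 0 0 * τ.th (M 2 0) + M 3 0 * τ.th (M 0 0) + M 1 0 * P = 0 := by
      rw [← s0, ← s2, hP]; grind
    have e012 : M 0 0 * P + M 1 0 * τ.th (M 1 0) + M 2 0 * τ.th (M 0 0) = 0 := by
      rw [← s0, ← s1, hP]; grind
    have ht0 : τ.th (M 0 0) ≠ 0 := fun h => h0 (τ.th_inj h)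
    intro i
    fin_cases i
    · simp [lm]
    · simp [lm]; field_simp
    · simp [lm]; field_simp
    · show M 3 0 = M 0 0 * corner τ (M 1 0 / M 0 0) (M 2 0 / M 0 0)
      simp only [corner, map_div₀]
      field_simp
      grind

theorem col_lg (a b : F) : col (lg τ a b) = fun i => lm τ a b i 0 := rfl

theorem col_scale {g h : GL (Fin 4) F} {c : F} (hc : col g = c • col h) (x : GL (Fin 4) F) :
    col (x * g) = c • col (x * h) := by
  rw [col_mul, col_mul, hc, Matrix.mulVec_smul]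

/-- The elements whose first column is a multiple of `e₀` form a triangular group. -/
theorem borel {g : GL (Fin 4) F} (hg : g ∈ Cfsg.Lie.Sz F τ.e)
    (h1 : col g 1 = 0) (h2' : col g 2 = 0) (h3 : col g 3 = 0) :
    ∃ (u : Fˣ) (a b : F), g = tg τ u * (wg * lg τ a b * wg) := by
  have h2 : (2 : F) = 0 := CharTwo.two_eq_zero
  have hl0 : col g 0 ≠ 0 := by
    intro h; apply col_ne g; funext i; fin_cases i <;> assumption
  set u : Fˣ := Units.mk0 _ hl0 with hu
  have ht : τ.th (u : F) ≠ 0 := fun h => u.ne_zero (τ.th_inj h)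
  set n := wg * ((tg τ u)⁻¹ * g) * wg with hn
  have hnm : n ∈ Cfsg.Lie.Sz F τ.e :=
    mul_mem (mul_mem (wg_mem τ) (mul_mem (inv_mem (tg_mem τ u)) hg)) (wg_mem τ)
  obtain ⟨hJ, hs⟩ := mem_facts τ hg
  set M := (g : Matrix (Fin 4) (Fin 4) F) with hM
  have hM1 : M 1 0 = 0 := h1
  have hM2 : M 2 0 = 0 := h2'
  have hM3 : M 3 0 = 0 := h3
  have hM0 : M 0 0 = (u : F) := rfl
  have s0 := hs 0 0
  have s1 := hs 1 0
  have s2 := hs 2 0
  simp [Cfsg.Lie.star4, Cfsg.Lie.pairOf, hM1, hM2, hM3, hM0] at s0 s1 s2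
  have f02 := form_col hJ 0 2
  have f03 := form_col hJ 0 3
  have f01 := form_col hJ 0 1
  simp [antiJ, hM1, hM2, hM3, hM0] at f02 f03 f01
  have hM33 : M 3 3 = 1 / (u : F) := by field_simp; linear_combination f03
  -- the last column of `n` in terms of `g`
  have hncol : col n 0 = 1 := by
    show (n : Matrix (Fin 4) (Fin 4) F) 0 0 = 1
    rw [hn, ← map_inv]
    simp only [Units.val_mul, tg_coe]
    show (antiJ * (tm τ u⁻¹ * M) * antiJ : Matrix (Fin 4) (Fin 4) F) 0 0 = 1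
    simp [conj_antiJ, Cfsg.Agent.SuzukiFix.rv, tm, Matrix.diagonal_mul, hM33]
  rcases col_on_ovoid τ hnm with ⟨h, -, -⟩ | ⟨-, a, b, hab⟩
  · rw [hncol] at h; exact absurd h one_ne_zero
  refine ⟨u, a, b, ?_⟩
  set m := (lg τ a b)⁻¹ * n with hm
  have hmm : m ∈ Cfsg.Lie.Sz F τ.e := mul_mem (inv_mem (lg_mem τ a b)) hnm
  have hcm : col m = col 1 := by
    have hcn : col n = (1 : F) • col (lg τ a b) := by
      funext i; rw [hab i, hncol, one_mul, one_smul]; rfl
    rw [hm, col_scale hcn, one_smul, inv_mul_cancel]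
  -- `n` is lower unitriangular
  have hnlow : (n : Matrix (Fin 4) (Fin 4) F) 0 1 = 0 ∧ (n : Matrix (Fin 4) (Fin 4) F) 0 2 = 0 ∧
      (n : Matrix (Fin 4) (Fin 4) F) 0 3 = 0 ∧ (n : Matrix (Fin 4) (Fin 4) F) 1 2 = 0 ∧
      (n : Matrix (Fin 4) (Fin 4) F) 1 3 = 0 ∧ (n : Matrix (Fin 4) (Fin 4) F) 2 3 = 0 ∧
      (n : Matrix (Fin 4) (Fin 4) F) 1 1 = 1 ∧ (n : Matrix (Fin 4) (Fin 4) F) 2 2 = 1 ∧
      (n : Matrix (Fin 4) (Fin 4) F) 3 3 = 1 := by
    have hM32 : M 3 2 = 0 := f02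
    have hM31 : M 3 1 = 0 := f01
    have hM21 : M 2 1 = 0 := s1
    have hM11 : M 1 1 = τ.th (u : F) / u := by field_simp; linear_combination s0
    have f12 := form_col hJ 1 2
    simp [antiJ, hM11, hM21, hM31, hM32] at f12
    have hM22 : M 2 2 = u / τ.th (u : F) := by field_simp at f12 ⊢; linear_combination f12
    rw [hn, ← map_inv]
    simp only [Units.val_mul, tg_coe]
    show (antiJ * (tm τ u⁻¹ * M) * antiJ : Matrix (Fin 4) (Fin 4) F) 0 1 = 0 ∧ _
    simp [conj_antiJ, Cfsg.Agent.SuzukiFix.rv, tm, Matrix.diagonal_mul, hM1, hM2, hM3, hM32, hM31, hM21, hM11,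
      hM22, hM0, hM33, wg, Units.val_mul]
    repeat' apply And.intro
    all_goals first
      | exact hM1 | exact hM2 | exact hM3 | exact hM0 | exact hM21 | exact hM31 | exact hM32 | exact s0
      | (show τ.th (u : F) * M 2 2 = (u : F); rw [hM22]; field_simp; done)
      | (show (u : F)⁻¹ * τ.th (u : F) * M 2 2 = 1; rw [hM22]; field_simp; done)
      | (show (τ.th (u : F))⁻¹ * (u : F) * M 1 1 = 1; rw [hM11]; field_simp; done)
      | (show (u : F)⁻¹ * M 0 0 = 1; rw [hM0]; field_simp; done)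
      | (show (u : F) * M 3 3 = 1; exact f03)
  obtain ⟨n01, n02, n03, n12, n13, n23, n11, n22, n33⟩ := hnlow
  obtain ⟨hJm, hsm⟩ := mem_facts τ hmm
  have hmlow : (m : Matrix (Fin 4) (Fin 4) F) = 1 := by
    set N := (m : Matrix (Fin 4) (Fin 4) F) with hN
    have hprod : N = lm τ a (b + τ.th a * a) * (n : Matrix (Fin 4) (Fin 4) F) := rfl
    have hc : ∀ i, N i 0 = (1 : Matrix (Fin 4) (Fin 4) F) i 0 := fun i => congrFun hcm i
    have q1 : N 0 1 = 0 ∧ N 0 2 = 0 ∧ N 0 3 = 0 ∧ N 1 2 = 0 ∧ N 1 3 = 0 ∧ N 2 3 = 0 ∧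
        N 1 1 = 1 ∧ N 2 2 = 1 ∧ N 3 3 = 1 := by
      rw [hprod]
      simp [Matrix.mul_apply, Fin.sum_univ_four, lm, n01, n02, n03, n12, n13, n23, n11, n22, n33]
    obtain ⟨q01, q02, q03, q12, q13, q23, q11, q22, q33⟩ := q1
    have c1 := hc 1
    have c2 := hc 2
    have c3 := hc 3
    have c0 := hc 0
    simp at c0 c1 c2 c3
    have t1 := hsm 1 0
    simp [Cfsg.Lie.star4, Cfsg.Lie.pairOf, c0, c1, c2] at t1
    have t2 := hsm 2 0
    simp [Cfsg.Lie.star4, Cfsg.Lie.pairOf, c0, c1, c2, c3] at t2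
    have g1 := form_col hJm 0 1
    simp [antiJ, c0, c1, c2, c3] at g1
    have g2 := form_col hJm 0 2
    simp [antiJ, c0, c1, c2, c3] at g2
    have g12 := form_col hJm 1 1
    have g12' := form_col hJm 1 2
    simp [antiJ, q01, q02, q11, q12, q22, t1, g1] at g12'
    ext i j
    fin_cases i <;> fin_cases j <;>
      simp [c0, c1, c2, c3, q01, q02, q03, q12, q13, q23, q11, q22, q33, t1, g1, g2]
  have hm1 : m = 1 := Units.ext hmlow
  rw [hm, inv_mul_eq_one] at hm1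
  rw [hm1, hn]
  calc g = tg τ u * ((tg τ u)⁻¹ * g) := (mul_inv_cancel_left _ _).symm
    _ = tg τ u * ((wg * wg) * ((tg τ u)⁻¹ * g) * (wg * wg)) := by rw [wg_sq, one_mul, mul_one]
    _ = _ := by simp only [mul_assoc]

end Cfsg.Agent.SzB
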