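import Mathlib
import Cfsg.Agent.Lib.SzB.Structure

set_option autoImplicit false

open scoped Matrix

namespace Cfsg.Agent.SzB

open Cfsg.Agent.SuzukiFix (antiJ)

variable {F : Type*} [Field F] [CharP F 2] (τ : Twist F)

/-- the lower element inside the group -/
def lS (a b : F) : Cfsg.Lie.Sz F τ.e := ⟨lg τ a b, lg_mem τ a b⟩

/-- the torus inside the group -/
def tS : Fˣ →* Cfsg.Lie.Sz F τ.e := (tg τ).codRestrict _ (tg_mem τ)

/-- the antidiagonal element inside the group -/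
def wS : Cfsg.Lie.Sz F τ.e := ⟨wg, wg_mem τ⟩

/-- the upper element -/
def uS (a b : F) : Cfsg.Lie.Sz F τ.e := wS τ * lS τ a b * wS τ

theorem wS_sq : wS τ * wS τ = 1 := Subtype.ext wg_sq

theorem lS_mul (a b a' b' : F) : lS τ a b * lS τ a' b' = lS τ (a + a') (b + b' + τ.th a * a') :=
  Subtype.ext (lg_mul τ a b a' b')

theorem lS_zero : lS τ 0 0 = 1 := Subtype.ext (lg_zero τ)

theorem uS_mul (a b a' b' : F) : uS τ a b * uS τ a' b' = uS τ (a + a') (b + b' + τ.th a * a') := by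
  rw [uS, uS, uS, ← lS_mul]
  calc wS τ * lS τ a b * wS τ * (wS τ * lS τ a' b' * wS τ)
      = wS τ * lS τ a b * (wS τ * wS τ) * (lS τ a' b' * wS τ) := by simp only [mul_assoc]
    _ = _ := by rw [wS_sq, mul_one]; simp only [mul_assoc]

theorem uS_zero : uS τ 0 0 = 1 := by rw [uS, lS_zero, mul_one, wS_sq]

theorem tS_lS (u : Fˣ) (a b : F) :
    tS τ u * lS τ a b * (tS τ u)⁻¹ = lS τ (a * τ.th u / (u : F) ^ 2) (b / τ.th u) :=
  Subtype.ext (tg_lg τ u a b)

theorem wS_tS (u : Fˣ) : wS τ * tS τ u * wS τ = (tS τ u)⁻¹ := Subtype.ext (wg_tg τ u)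

theorem tS_uS (u : Fˣ) (a b : F) :
    tS τ u * uS τ a b * (tS τ u)⁻¹ =
      uS τ (a * τ.th (u⁻¹ : Fˣ) / ((u⁻¹ : Fˣ) : F) ^ 2) (b / τ.th (u⁻¹ : Fˣ)) := by
  have h : tS τ u = wS τ * tS τ u⁻¹ * wS τ := by rw [wS_tS, map_inv, inv_inv]
  have hw : (wS τ)⁻¹ = wS τ := inv_eq_of_mul_eq_one_right (wS_sq τ)
  conv_rhs => rw [uS, ← tS_lS]
  rw [h, uS, mul_inv_rev, mul_inv_rev, hw]
  calc wS τ * tS τ u⁻¹ * wS τ * (wS τ * lS τ a b * wS τ) * (wS τ * ((tS τ u⁻¹)⁻¹ * wS τ))
      = wS τ * tS τ u⁻¹ * (wS τ * wS τ) * lS τ a b * (wS τ * wS τ) * (tS τ u⁻¹)⁻¹ * wS τ := by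
        simp only [mul_assoc]
    _ = _ := by rw [wS_sq, mul_one, mul_one]; simp only [mul_assoc]

/-- first column of a member -/
def colS (g : Cfsg.Lie.Sz F τ.e) : Fin 4 → F := col (g : GL (Fin 4) F)

theorem colS_uS (a b : F) : colS τ (uS τ a b) = colS τ 1 := by
  funext i
  show (antiJ * lm τ a b * antiJ : Matrix (Fin 4) (Fin 4) F) i 0 = (1 : Matrix (Fin 4) (Fin 4) F) i 0
  rw [conj_antiJ]
  fin_cases i <;> simp [lm, Cfsg.Agent.SuzukiFix.rv, Matrix.one_apply]

theorem colS_scale {g h : Cfsg.Lie.Sz F τ.e} {c : F} (hc : colS τ g = c • colS τ h)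
    (x : Cfsg.Lie.Sz F τ.e) : colS τ (x * g) = c • colS τ (x * h) := col_scale hc _

theorem borelS (g : Cfsg.Lie.Sz F τ.e) {c : F} (hc : colS τ g = c • colS τ 1) :
    ∃ (u : Fˣ) (a b : F), g = tS τ u * uS τ a b := by
  have h : ∀ i, i ≠ 0 → col (g : GL (Fin 4) F) i = 0 := fun i hi => by
    have := congrFun hc i
    simp [colS, col, Matrix.one_apply, hi] at this
    exact this
  obtain ⟨u, a, b, he⟩ := borel τ g.2 (h 1 (by decide)) (h 2 (by decide)) (h 3 (by decide))
  exact ⟨u, a, b, Subtype.ext he⟩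

/-- A point other than the first is a translate of the last one. -/
theorem point_translate (g : Cfsg.Lie.Sz F τ.e) (hg : ¬ ∃ c : F, colS τ g = c • colS τ 1) :
    ∃ (a b c : F), c ≠ 0 ∧ colS τ g = c • colS τ (uS τ a b * wS τ) := by
  have hw : colS τ g = fun i => colS τ (wS τ * g) (Cfsg.Agent.SuzukiFix.rv i) := by
    funext i
    have : g = wS τ * (wS τ * g) := by rw [← mul_assoc, wS_sq, one_mul]
    conv_lhs => rw [this]
    show col (_ * _) i = _
    rw [col_mul]
    fin_cases i <;> simp [wS, wg, antiJ, Cfsg.Agent.SuzukiFix.rv, Matrix.mulVec, dotProduct,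
      Fin.sum_univ_four, colS]
  rcases col_on_ovoid τ (wS τ * g).2 with ⟨h0, h1, h2⟩ | ⟨h0, a, b, hab⟩
  · exfalso
    apply hg
    refine ⟨colS τ (wS τ * g) 3, ?_⟩
    rw [hw]
    funext i
    fin_cases i <;> simp [Cfsg.Agent.SuzukiFix.rv, colS, col, Matrix.one_apply] <;> assumption
  · refine ⟨a, b, colS τ (wS τ * g) 0, h0, ?_⟩
    have e : uS τ a b * wS τ = wS τ * lS τ a b := by rw [uS, mul_assoc, wS_sq, mul_one]
    have hc : colS τ (wS τ * g) = colS τ (wS τ * g) 0 • colS τ (lS τ a b) := by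
      funext i; exact hab i
    have h3 := colS_scale τ hc (wS τ)
    rw [← mul_assoc, wS_sq, one_mul] at h3
    rw [e]; exact h3

variable [Finite F]

/-- A normal subgroup containing the centre of the lower unipotent group is everything. -/
theorem eq_top_of_center_le (hq : ∃ u : Fˣ, u ≠ 1) (N : Subgroup (Cfsg.Lie.Sz F τ.e)) [N.Normal]
    (hN : ∀ b, lS τ 0 b ∈ N) : N = ⊤ := by
  classical
  have hT : ¬ ∃ c : F, colS τ (lS τ 0 1) = c • colS τ 1 := by
    rintro ⟨c, hc⟩
    have := congrFun hc 2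
    simp [colS, lS, col, lg_coe, lm, Matrix.one_apply] at this
  obtain ⟨a1, b1, c1, hc1, h1⟩ := point_translate τ _ hT
  have hdec : ∀ g, ∃ (n : Cfsg.Lie.Sz F τ.e) (u : Fˣ) (a b : F), n ∈ N ∧ g = n * (tS τ u * uS τ a b) := by
    intro g
    by_cases hg : ∃ c : F, colS τ g = c • colS τ 1
    · obtain ⟨c, hc⟩ := hg
      obtain ⟨u, a, b, he⟩ := borelS τ g hc
      exact ⟨1, u, a, b, one_mem N, by rw [one_mul, he]⟩
    · obtain ⟨a, b, c, hc, h⟩ := point_translate τ g hg
      set x := uS τ a b * (uS τ a1 b1)⁻¹ with hx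
      set n := x * lS τ 0 1 * x⁻¹ with hn
      have hnN : n ∈ N := (inferInstance : N.Normal).conj_mem _ (hN 1) x
      have hxi : colS τ x⁻¹ = colS τ 1 := by
        have hi : x⁻¹ = uS τ a1 b1 * (uS τ a b)⁻¹ := by rw [hx, mul_inv_rev, inv_inv]
        have hu : ∀ s t, colS τ ((uS τ s t)⁻¹) = colS τ 1 := fun s t => by
          have := colS_scale τ (show colS τ (uS τ s t) = (1 : F) • colS τ 1 by rw [one_smul, colS_uS])
            (uS τ s t)⁻¹
          rw [inv_mul_cancel, one_smul, mul_one] at this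
          exact this.symm
        rw [hi]
        have := colS_scale τ (show colS τ (uS τ a b)⁻¹ = (1 : F) • colS τ 1 by rw [one_smul, hu])
          (uS τ a1 b1)
        rwa [one_smul, mul_one, colS_uS] at this
      have hcn : colS τ n = c1 • colS τ (uS τ a b * wS τ) := by
        have e1 := colS_scale τ (show colS τ x⁻¹ = (1 : F) • colS τ 1 by rw [one_smul, hxi]) (x * lS τ 0 1)
        rw [one_smul, mul_one] at e1
        rw [hn, e1, colS_scale τ h1 x, hx]
        congr 2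
        rw [mul_assoc, inv_mul_cancel_left]
      have hgn : colS τ g = (c / c1) • colS τ n := by
        rw [h, hcn, smul_smul, div_mul_cancel₀ _ hc1]
      have h' := colS_scale τ hgn n⁻¹
      rw [inv_mul_cancel] at h'
      obtain ⟨u, a', b', he⟩ := borelS τ _ h'
      exact ⟨n, u, a', b', hnN, by rw [← he, mul_inv_cancel_left]⟩
  set q := QuotientGroup.mk' N with hq'
  have hq1 : ∀ x, q x = 1 ↔ x ∈ N := fun x => QuotientGroup.eq_one_iff x
  have hu0 : ∀ b, q (uS τ 0 b) = 1 := fun b => by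
    rw [hq1, uS]
    have hw : wS τ = (wS τ)⁻¹ := (inv_eq_of_mul_eq_one_right (wS_sq τ)).symm
    have := (inferInstance : N.Normal).conj_mem _ (hN b) (wS τ)
    rwa [← hw] at this
  set ω : F → Cfsg.Lie.Sz F τ.e ⧸ N := fun a => q (uS τ a 0) with hω
  have hωb : ∀ a b, q (uS τ a b) = ω a := fun a b => by
    have : uS τ a b = uS τ a 0 * uS τ 0 b := by rw [uS_mul]; simp
    rw [this, map_mul, hu0, mul_one]
  have hωadd : ∀ a a', ω a * ω a' = ω (a + a') := fun a a' => by
    rw [hω]; simp only; rw [← map_mul, uS_mul]; exact hωb _ _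
  have hωzero : ω 0 = 1 := hu0 0
  have hωsq : ∀ a, ω a * ω a = 1 := fun a => by rw [hωadd, CharTwo.add_self_eq_zero, hωzero]
  -- the torus dies
  obtain ⟨n0, u0, a0, b0, hn0, hw0⟩ := hdec (wS τ)
  have htor : ∀ u, q (tS τ u) = 1 := by
    intro u
    set t := q (tS τ u) with ht
    set A := q (tS τ u0)
    have hA : Commute A t := by
      show q (tS τ u0) * q (tS τ u) = q (tS τ u) * q (tS τ u0)
      rw [← map_mul, ← map_mul, ← map_mul, ← map_mul, mul_comm]
    have hw : q (wS τ) = A * ω a0 := by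
      rw [hw0, map_mul, (hq1 n0).mpr hn0, one_mul, map_mul, hωb]
    have hwi : (q (wS τ)) * q (wS τ) = 1 := by rw [← map_mul, wS_sq, map_one]
    have h1 : q (wS τ) * t * (q (wS τ))⁻¹ = t⁻¹ := by
      rw [inv_eq_of_mul_eq_one_right hwi, ht, ← map_mul, ← map_mul, wS_tS, map_inv]
    obtain ⟨a', hconj⟩ : ∃ a', t * ω a0 * t⁻¹ = ω a' := by
      refine ⟨a0 * τ.th (u⁻¹ : Fˣ) / ((u⁻¹ : Fˣ) : F) ^ 2, ?_⟩
      rw [ht, hω]; simp only
      rw [← map_inv, ← map_mul, ← map_mul, tS_uS]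
      exact hωb _ _
    have h2 : ω a0 * t * (ω a0)⁻¹ = t⁻¹ := by
      rw [hw, mul_inv_rev] at h1
      have h3 : A⁻¹ * t⁻¹ * A = t⁻¹ := by
        rw [mul_assoc, ← hA.inv_right.eq, inv_mul_cancel_left]
      rw [← h3, ← h1]; group
    have h4 : t * t = ω (a' + a0) := by
      rw [← hωadd]
      have e : ω a0 * t = t⁻¹ * ω a0 := mul_inv_eq_iff_eq_mul.mp h2
      have e2 : t * ω a0 = ω a' * t := mul_inv_eq_iff_eq_mul.mp hconj
      have e3 : ω a0 = t * (ω a0 * t) := by rw [e, mul_inv_cancel_left]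
      rw [← mul_assoc, e2, mul_assoc] at e3
      calc t * t = (ω a' * ω a') * (t * t) := by rw [hωsq, one_mul]
        _ = ω a' * ω a0 := by rw [mul_assoc, ← e3]
    have h4' : t ^ 4 = 1 := by
      rw [show t ^ 4 = (t * t) * (t * t) by simp [pow_succ, mul_assoc], h4, hωsq]
    have hodd : Odd (orderOf u) := by
      rw [← Nat.not_even_iff_odd]
      intro hev
      obtain ⟨v, hv⟩ : ∃ v : Fˣ, v ^ 2 = 1 ∧ v ≠ 1 := by
        refine ⟨u ^ (orderOf u / 2), ?_, ?_⟩
        · rw [← pow_mul, Nat.div_mul_cancel (even_iff_two_dvd.mp hev), pow_orderOf_eq_one]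
        · intro h
          have := orderOf_dvd_of_pow_eq_one h
          have hp : 0 < orderOf u := orderOf_pos u
          have := Nat.le_of_dvd (by obtain ⟨k, hk⟩ := hev; omega) this
          omega
      apply hv.2
      apply Units.ext
      have h' : (v : F) ^ 2 = 1 ^ 2 := by
        rw [one_pow, ← Units.val_pow_eq_pow_val, hv.1, Units.val_one]
      exact (frobenius_inj F 2) (by simpa [frobenius_def] using h')
    have ho : t ^ orderOf u = 1 := by rw [ht, ← map_pow, ← map_pow, pow_orderOf_eq_one, map_one, map_one]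
    have hcop : Nat.Coprime 4 (orderOf u) := by
      rw [show (4 : ℕ) = 2 ^ 2 from rfl]
      exact Nat.Coprime.pow_left _ (Nat.coprime_two_left.mpr hodd)
    exact orderOf_eq_one_iff.mp (Nat.eq_one_of_dvd_coprimes hcop (orderOf_dvd_of_pow_eq_one h4') (orderOf_dvd_of_pow_eq_one ho))
  -- the unipotent part dies
  obtain ⟨u, hu⟩ : ∃ u : Fˣ, τ.th (u : F) ≠ (u : F) ^ 2 := by
    by_contra hcon
    push Not at hcon
    obtain ⟨v, hv⟩ := hq
    have h := hcon v
    have h' := τ.th_th (v : F)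
    rw [h, map_pow, h] at h'
    have hv2 : (v : F) ^ 2 = 1 := by
      have hne : (v : F) ^ 2 ≠ 0 := pow_ne_zero 2 v.ne_zero
      apply mul_left_cancel₀ hne
      rw [mul_one]; linear_combination h'
    exact hv (Units.ext ((frobenius_inj F 2) (by simpa [frobenius_def] using hv2)))
  have hkill : ∀ a, ω a = 1 := by
    intro a
    set f : F := τ.th (u : F) / (u : F) ^ 2 with hf
    have hf1 : f ≠ 1 := fun h => hu ((div_eq_one_iff_eq (pow_ne_zero 2 u.ne_zero)).mp h)
    have hfix : ∀ c, ω (c * f) = ω c := by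
      intro c
      have e := tS_uS τ u⁻¹ c 0
      have e' := congrArg q e
      rw [map_mul, map_mul, htor, one_mul, map_inv, htor, inv_one, mul_one, hωb, hωb, inv_inv] at e'
      rw [e', hf, mul_div_assoc]
    have hne : f + 1 ≠ 0 := fun h => hf1 (CharTwo.add_eq_zero.mp h)
    have := hfix (a / (f + 1))
    calc ω a = ω (a / (f + 1) * f + a / (f + 1)) := by congr 1; field_simp
      _ = 1 := by rw [← hωadd, this, hωsq]
  rw [eq_top_iff]
  intro g _
  obtain ⟨n, u, a, b, hn, rfl⟩ := hdec g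
  rw [← hq1, map_mul, map_mul, (hq1 n).mpr hn, htor, hωb, hkill, one_mul, one_mul]

end Cfsg.Agent.SzB
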