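import Mathlib
import Cfsg.Agent.Lib.SzB.NormalClosure

/-!
# Point stabiliser, order and simplicity of the Suzuki groups
-/

set_option autoImplicit false

open scoped Matrix

namespace Cfsg.Agent.SzB

open Cfsg.Agent.SuzukiFix (antiJ)

variable {F : Type*} [Field F] [CharP F 2] (τ : Twist F)

theorem lS_inj {a b a' b' : F} (h : lS τ a b = lS τ a' b') : a = a' ∧ b = b' := by
  have h' := congrArg (fun g : Cfsg.Lie.Sz F τ.e => ((g : GL (Fin 4) F) : Matrix (Fin 4) (Fin 4) F)) h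
  exact ⟨congrFun (congrFun h' 1) 0, congrFun (congrFun h' 2) 0⟩

theorem uS_inj {a b a' b' : F} (h : uS τ a b = uS τ a' b') : a = a' ∧ b = b' :=
  lS_inj τ (mul_left_cancel (mul_right_cancel h))

theorem uS_inv (a b : F) : (uS τ a b)⁻¹ = uS τ a (b + τ.th a * a) := by
  apply inv_eq_of_mul_eq_one_right
  rw [uS_mul, CharTwo.add_self_eq_zero,
    show b + (b + τ.th a * a) + τ.th a * a = (b + b) + (τ.th a * a + τ.th a * a) by ring,
    CharTwo.add_self_eq_zero, CharTwo.add_self_eq_zero, add_zero, uS_zero]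

theorem colS_tS_zero (u : Fˣ) : colS τ (tS τ u) 0 = (u : F) := by
  show tm τ u 0 0 = (u : F)
  simp [tm]

theorem colS_tS (u : Fˣ) : colS τ (tS τ u) = (u : F) • colS τ 1 := by
  funext i
  show tm τ u i 0 = (u : F) * (1 : Matrix (Fin 4) (Fin 4) F) i 0
  fin_cases i <;> simp [tm, Matrix.one_apply]

theorem colS_mul_uS (g : Cfsg.Lie.Sz F τ.e) (a b : F) : colS τ (g * uS τ a b) = colS τ g := by
  have := colS_scale τ (show colS τ (uS τ a b) = (1 : F) • colS τ 1 by rw [one_smul, colS_uS]) g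
  rwa [one_smul, mul_one] at this

/-- the stabiliser of the first point -/
def bor : Subgroup (Cfsg.Lie.Sz F τ.e) where
  carrier := {g | ∃ c : F, colS τ g = c • colS τ 1}
  one_mem' := ⟨1, (one_smul _ _).symm⟩
  mul_mem' := by
    rintro x y ⟨c, hc⟩ ⟨d, hd⟩
    refine ⟨d * c, ?_⟩
    rw [colS_scale τ hd x, mul_one, hc, smul_smul]
  inv_mem' := by
    rintro x ⟨c, hc⟩
    have h := colS_scale τ hc x⁻¹
    rw [inv_mul_cancel, mul_one] at h
    have hc0 : c ≠ 0 := fun h0 => col_ne (x : GL (Fin 4) F) (by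
      show colS τ x = 0
      rw [hc, h0, zero_smul])
    exact ⟨c⁻¹, by rw [h, smul_smul, inv_mul_cancel₀ hc0, one_smul]⟩

theorem uS_mem_bor (a b : F) : uS τ a b ∈ bor τ := ⟨1, by rw [one_smul, colS_uS]⟩

theorem tS_mem_bor (u : Fˣ) : tS τ u ∈ bor τ := ⟨u, colS_tS τ u⟩

theorem mem_bor_iff {g : Cfsg.Lie.Sz F τ.e} :
    g ∈ bor τ ↔ ∃ (u : Fˣ) (a b : F), g = tS τ u * uS τ a b := by
  constructor
  · rintro ⟨c, hc⟩; exact borelS τ g hc
  · rintro ⟨u, a, b, rfl⟩; exact mul_mem (tS_mem_bor τ u) (uS_mem_bor τ a b)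

theorem bor_unique {u u' : Fˣ} {a b a' b' : F}
    (h : tS τ u * uS τ a b = tS τ u' * uS τ a' b') : u = u' ∧ a = a' ∧ b = b' := by
  have h0 := congrArg (fun g => colS τ g 0) h
  simp only [colS_mul_uS, colS_tS_zero] at h0
  have hu : u = u' := Units.ext h0
  subst hu
  exact ⟨rfl, uS_inj τ (mul_left_cancel h)⟩

theorem lS_mem_bor {a b : F} (h : lS τ a b ∈ bor τ) : a = 0 ∧ b = 0 := by
  obtain ⟨c, hc⟩ := h
  have h1 := congrFun hc 1
  have h2 := congrFun hc 2
  simp [colS, col, lS, lg_coe, lm, Matrix.one_apply] at h1 h2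
  exact ⟨h1, h2⟩

theorem uw_not_mem (a b : F) : uS τ a b * wS τ ∉ bor τ := by
  intro h
  have hw : wS τ ∈ bor τ := by
    have := mul_mem (inv_mem (uS_mem_bor τ a b)) h
    rwa [inv_mul_cancel_left] at this
  obtain ⟨c, hc⟩ := hw
  have h3 := congrFun hc 3
  simp [colS, col, wS, wg, antiJ, Matrix.one_apply] at h3

/-- every element outside the stabiliser is in a translate of the opposite cell -/
theorem exists_cell {g : Cfsg.Lie.Sz F τ.e} (hg : g ∉ bor τ) :
    ∃ a b : F, (uS τ a b * wS τ)⁻¹ * g ∈ bor τ := by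
  obtain ⟨a, b, c, -, h⟩ := point_translate τ g hg
  refine ⟨a, b, c, ?_⟩
  have := colS_scale τ h (uS τ a b * wS τ)⁻¹
  rwa [inv_mul_cancel] at this

theorem cell_unique {a b a' b' : F}
    (h : (uS τ a b * wS τ)⁻¹ * (uS τ a' b' * wS τ) ∈ bor τ) : a = a' ∧ b = b' := by
  have hw : (wS τ)⁻¹ = wS τ := inv_eq_of_mul_eq_one_right (wS_sq τ)
  rw [mul_inv_rev, hw, uS_inv, mul_assoc, ← mul_assoc (uS τ a _), uS_mul, uS] at h
  set x := a + a'
  set y := b + τ.th a * a + b' + τ.th a * a'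
  have e : wS τ * (wS τ * lS τ x y * wS τ * wS τ) = lS τ x y := by
    simp only [mul_assoc, wS_sq, mul_one]
    rw [← mul_assoc, wS_sq, one_mul]
  rw [e] at h
  obtain ⟨hx, hy⟩ := lS_mem_bor τ h
  have ha : a = a' := CharTwo.add_eq_zero.mp hx
  subst ha
  refine ⟨rfl, CharTwo.add_eq_zero.mp ?_⟩
  have : y = (b + b') + (τ.th a * a + τ.th a * a) := by ring
  rw [this, CharTwo.add_self_eq_zero, add_zero] at hy
  exact hy

/-- the parametrisation of the points -/
noncomputable def pointEquiv : Option (F × F) ≃ (Cfsg.Lie.Sz F τ.e ⧸ bor τ) :=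
  Equiv.ofBijective (fun o => o.elim (QuotientGroup.mk 1) (fun p => QuotientGroup.mk (uS τ p.1 p.2 * wS τ))) (by
    constructor
    · rintro (_ | ⟨a, b⟩) (_ | ⟨a', b'⟩) h
      · rfl
      · exfalso
        have h' := QuotientGroup.eq.mp h
        rw [inv_one, one_mul] at h'
        exact uw_not_mem τ _ _ h'
      · exfalso
        have h' := QuotientGroup.eq.mp h.symm
        rw [inv_one, one_mul] at h'
        exact uw_not_mem τ _ _ h'
      · obtain ⟨rfl, rfl⟩ := cell_unique τ (QuotientGroup.eq.mp h)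
        rfl
    · intro x
      induction x using QuotientGroup.induction_on with
      | H g =>
        by_cases hg : g ∈ bor τ
        · exact ⟨none, QuotientGroup.eq.mpr (by rwa [inv_one, one_mul])⟩
        · obtain ⟨a, b, h⟩ := exists_cell τ hg
          exact ⟨some (a, b), QuotientGroup.eq.mpr h⟩)

theorem pointEquiv_some (a b : F) :
    pointEquiv τ (some (a, b)) = QuotientGroup.mk (uS τ a b * wS τ) := rfl

theorem pointEquiv_none : pointEquiv τ none = QuotientGroup.mk 1 := rfl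

/-- the unipotent subgroup fixing the first point -/
def unip : Subgroup (Cfsg.Lie.Sz F τ.e) where
  carrier := {g | ∃ a b : F, g = uS τ a b}
  one_mem' := ⟨0, 0, (uS_zero τ).symm⟩
  mul_mem' := by rintro _ _ ⟨a, b, rfl⟩ ⟨a', b', rfl⟩; exact ⟨_, _, uS_mul τ a b a' b'⟩
  inv_mem' := by rintro _ ⟨a, b, rfl⟩; exact ⟨_, _, uS_inv τ a b⟩

theorem unip_le_bor : unip τ ≤ bor τ := by rintro _ ⟨a, b, rfl⟩; exact uS_mem_bor τ a b

theorem tS_conj_unip (u : Fˣ) {x : Cfsg.Lie.Sz F τ.e} (hx : x ∈ unip τ) :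
    tS τ u * x * (tS τ u)⁻¹ ∈ unip τ := by
  obtain ⟨a, b, rfl⟩ := hx
  exact ⟨_, _, tS_uS τ u a b⟩

theorem bor_conj_unip {g x : Cfsg.Lie.Sz F τ.e} (hg : g ∈ bor τ) (hx : x ∈ unip τ) :
    g * x * g⁻¹ ∈ unip τ := by
  obtain ⟨u, a, b, rfl⟩ := (mem_bor_iff τ).mp hg
  have h1 : uS τ a b * x * (uS τ a b)⁻¹ ∈ unip τ :=
    mul_mem (mul_mem ⟨a, b, rfl⟩ hx) (inv_mem ⟨a, b, rfl⟩)
  have := tS_conj_unip τ u h1
  simpa [mul_inv_rev, mul_assoc] using this

theorem normalizer_unip : Subgroup.normalizer (unip τ : Set (Cfsg.Lie.Sz F τ.e)) = bor τ := by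
  apply le_antisymm
  · intro g hg
    by_contra hgB
    obtain ⟨a, b, h⟩ := exists_cell τ hgB
    have hmem : (uS τ a b * wS τ)⁻¹ * g ∈ bor τ := h
    set β := (uS τ a b * wS τ)⁻¹ * g with hβ
    have hge : g = uS τ a b * wS τ * β := by rw [hβ, mul_inv_cancel_left]
    have hβi : ∀ x ∈ unip τ, β⁻¹ * x * β ∈ unip τ := fun x hx => by
      have := bor_conj_unip τ (inv_mem hmem) hx
      rwa [inv_inv] at this
    have h1 : g * (β⁻¹ * uS τ 1 0 * β) * g⁻¹ ∈ unip τ :=
      (Subgroup.mem_set_normalizer_iff.mp hg _).mp (hβi _ ⟨1, 0, rfl⟩)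
    have h2 : uS τ a b * (wS τ * uS τ 1 0 * wS τ) * (uS τ a b)⁻¹ ∈ unip τ := by
      have hw : (wS τ)⁻¹ = wS τ := inv_eq_of_mul_eq_one_right (wS_sq τ)
      have e : g * (β⁻¹ * uS τ 1 0 * β) * g⁻¹ = uS τ a b * (wS τ * uS τ 1 0 * wS τ) * (uS τ a b)⁻¹ := by
        rw [hge]
        simp only [mul_inv_rev, hw]
        group
      rwa [e] at h1
    have h3 : wS τ * uS τ 1 0 * wS τ ∈ bor τ := by
      have := mul_mem (mul_mem (inv_mem (uS_mem_bor τ a b)) (unip_le_bor τ h2)) (uS_mem_bor τ a b)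
      simpa [mul_assoc] using this
    have e : wS τ * uS τ 1 0 * wS τ = lS τ 1 0 := by
      rw [uS]
      simp only [mul_assoc, wS_sq, mul_one]
      rw [← mul_assoc, wS_sq, one_mul]
    rw [e] at h3
    exact one_ne_zero (lS_mem_bor τ h3).1
  · intro g hg
    rw [Subgroup.mem_set_normalizer_iff]
    intro x
    refine ⟨fun hx => bor_conj_unip τ hg hx, fun hx => ?_⟩
    have := bor_conj_unip τ (inv_mem hg) hx
    simpa [mul_assoc] using this

section Finite

variable [Fintype F]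

theorem card_bor : Nat.card (bor τ) = (Fintype.card F - 1) * Fintype.card F ^ 2 := by
  classical
  let e : Fˣ × F × F → bor τ := fun p =>
    ⟨tS τ p.1 * uS τ p.2.1 p.2.2, mul_mem (tS_mem_bor τ _) (uS_mem_bor τ _ _)⟩
  have he : Function.Bijective e := by
    constructor
    · rintro ⟨u, a, b⟩ ⟨u', a', b'⟩ h
      obtain ⟨h1, h2, h3⟩ := bor_unique τ (congrArg Subtype.val h)
      exact Prod.ext h1 (Prod.ext h2 h3)
    · rintro ⟨g, hg⟩
      obtain ⟨u, a, b, rfl⟩ := (mem_bor_iff τ).mp hg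
      exact ⟨(u, a, b), rfl⟩
  rw [← Nat.card_congr (Equiv.ofBijective e he), Nat.card_prod, Nat.card_prod,
    Nat.card_eq_fintype_card, Nat.card_eq_fintype_card, Fintype.card_units, pow_two]

theorem card_unip : Nat.card (unip τ) = Fintype.card F ^ 2 := by
  classical
  let e : F × F → unip τ := fun p => ⟨uS τ p.1 p.2, p.1, p.2, rfl⟩
  have he : Function.Bijective e := by
    constructor
    · rintro ⟨a, b⟩ ⟨a', b'⟩ h
      obtain ⟨h1, h2⟩ := uS_inj τ (congrArg Subtype.val h)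
      exact Prod.ext h1 h2
    · rintro ⟨g, a, b, rfl⟩
      exact ⟨(a, b), rfl⟩
  rw [← Nat.card_congr (Equiv.ofBijective e he), Nat.card_prod, Nat.card_eq_fintype_card, pow_two]

theorem index_bor : (bor τ).index = Fintype.card F ^ 2 + 1 := by
  rw [Subgroup.index, ← Nat.card_congr (pointEquiv τ), Nat.card_eq_fintype_card, Fintype.card_option,
    Fintype.card_prod, pow_two]

theorem card_group : Nat.card (Cfsg.Lie.Sz F τ.e) =
    Fintype.card F ^ 2 * (Fintype.card F - 1) * (Fintype.card F ^ 2 + 1) := by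
  rw [← (bor τ).card_mul_index, card_bor, index_bor]
  ring

omit [Fintype F] in
theorem exists_th_ne [Finite F] (hq : ∃ u : Fˣ, u ≠ 1) : ∃ y : F, τ.th y ≠ y := by
  by_contra h
  push Not at h
  obtain ⟨u, hu⟩ := hq
  have h2 := τ.th_th (u : F)
  rw [h, h] at h2
  apply hu
  apply Units.ext
  have : (u : F) * ((u : F) - 1) = 0 := by linear_combination -h2
  rcases mul_eq_zero.mp this with h3 | h3
  · exact absurd h3 u.ne_zero
  · exact sub_eq_zero.mp h3

theorem simple (hq : ∃ u : Fˣ, u ≠ 1) : IsSimpleGroup (Cfsg.Lie.Sz F τ.e) := by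
  classical
  have : Nontrivial (Cfsg.Lie.Sz F τ.e) :=
    ⟨⟨uS τ 1 0, 1, fun h => one_ne_zero (uS_inj τ (h.trans (uS_zero τ).symm)).1⟩⟩
  constructor
  intro N hN
  by_cases hbot : N = ⊥
  · exact Or.inl hbot
  right
  haveI := hN
  have hθs : Function.Surjective τ.th := Finite.injective_iff_surjective.mp τ.th.injective
  -- a non-trivial central unipotent element suffices
  have hfin : ∀ b0 : F, b0 ≠ 0 → uS τ 0 b0 ∈ N → N = ⊤ := by
    intro b0 hb0 hmem
    refine eq_top_of_center_le τ hq N fun b => ?_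
    have hall : ∀ c, uS τ 0 c ∈ N := by
      intro c
      by_cases hc : c = 0
      · rw [hc, uS_zero]; exact one_mem N
      obtain ⟨r, hr⟩ := hθs (b0 / c)
      have hr0 : r ≠ 0 := by
        rintro rfl
        rw [map_zero] at hr
        exact div_ne_zero hb0 hc hr.symm
      have := hN.conj_mem _ hmem (tS τ (Units.mk0 r hr0)⁻¹)
      rw [tS_uS, inv_inv] at this
      simp only [zero_mul, zero_div, Units.val_mk0, hr] at this
      rwa [div_div_cancel₀ hb0] at this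
    have := hN.conj_mem _ (hall b) (wS τ)
    rw [uS, inv_eq_of_mul_eq_one_right (wS_sq τ)] at this
    simp only [mul_assoc, wS_sq, mul_one] at this
    rwa [← mul_assoc, wS_sq, one_mul] at this
  by_cases hU : ∃ a b, (a ≠ 0 ∨ b ≠ 0) ∧ uS τ a b ∈ N
  · obtain ⟨a, b, hab, hmem⟩ := hU
    by_cases ha : a = 0
    · subst ha; exact hfin b (hab.resolve_left (fun h => h rfl)) hmem
    obtain ⟨y, hy⟩ : ∃ y, τ.th a * y + τ.th y * a ≠ 0 := by
      by_contra h
      push Not at h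
      obtain ⟨y, hy⟩ := exists_th_ne τ hq
      have h1 := h 1
      rw [map_one, mul_one, one_mul] at h1
      have ha' : τ.th a = a := CharTwo.add_eq_zero.mp h1
      have h2 := h y
      rw [ha', mul_comm a y, ← add_mul] at h2
      exact hy (CharTwo.add_eq_zero.mp ((mul_eq_zero.mp h2).resolve_right ha)).symm
    refine hfin _ hy ?_
    have hmem' : uS τ a b * (uS τ y 0 * (uS τ a b)⁻¹ * (uS τ y 0)⁻¹) ∈ N :=
      mul_mem hmem (hN.conj_mem _ (inv_mem hmem) _)
    have e : uS τ 0 (τ.th a * y + τ.th y * a) * (uS τ y 0 * uS τ a b) = uS τ a b * uS τ y 0 := by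
      rw [uS_mul, uS_mul, uS_mul]
      have h2 : (2 : F) = 0 := CharTwo.two_eq_zero
      congr 1
      · ring
      · simp only [map_zero, zero_mul, add_zero, zero_add]
        linear_combination (τ.th y * a) * h2
    have e' : uS τ a b * (uS τ y 0 * (uS τ a b)⁻¹ * (uS τ y 0)⁻¹) =
        uS τ 0 (τ.th a * y + τ.th y * a) := by
      rw [eq_comm, ← mul_inv_eq_iff_eq_mul.mpr e.symm]
      group
    rwa [e'] at hmem'
  push Not at hU
  have hUN : ∀ x ∈ N, x ∈ unip τ → x = 1 := by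
    rintro x hx ⟨a, b, rfl⟩
    by_contra hne
    by_cases ha : a = 0
    · by_cases hb : b = 0
      · exact hne (by rw [ha, hb, uS_zero])
      · exact hU a b (Or.inr hb) hx
    · exact hU a b (Or.inl ha) hx
  have hBN : ∀ x ∈ N, x ∈ bor τ → x = 1 := by
    intro x hx hxB
    obtain ⟨u, a, b, rfl⟩ := (mem_bor_iff τ).mp hxB
    set x := tS τ u * uS τ a b with hxdef
    have hc1 : x * uS τ 0 1 * x⁻¹ * (uS τ 0 1)⁻¹ ∈ N := by
      have := mul_mem hx (hN.conj_mem _ (inv_mem hx) (uS τ 0 1))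
      simpa [mul_assoc] using this
    have hc2 : x * uS τ 0 1 * x⁻¹ * (uS τ 0 1)⁻¹ ∈ unip τ :=
      mul_mem (bor_conj_unip τ hxB ⟨0, 1, rfl⟩) (inv_mem ⟨0, 1, rfl⟩)
    have hc := hUN _ hc1 hc2
    rw [mul_inv_eq_one] at hc
    have e : uS τ a b * uS τ 0 1 * (uS τ a b)⁻¹ = uS τ 0 1 := by
      rw [mul_inv_eq_iff_eq_mul, uS_mul, uS_mul]
      simp [add_comm]
    have e' : tS τ u * uS τ 0 1 * (tS τ u)⁻¹ = uS τ 0 1 := by
      have h : x * uS τ 0 1 * x⁻¹ =
          tS τ u * (uS τ a b * uS τ 0 1 * (uS τ a b)⁻¹) * (tS τ u)⁻¹ := by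
        rw [hxdef]; group
      rw [e] at h; rw [← h]; exact hc
    rw [tS_uS] at e'
    obtain ⟨-, h1⟩ := uS_inj τ e'
    have hu1 : u = 1 := by
      have h2 : τ.th ((u⁻¹ : Fˣ) : F) = 1 := by
        rw [one_div, inv_eq_one] at h1; exact h1
      have h3 : ((u⁻¹ : Fˣ) : F) = 1 := τ.th.injective (h2.trans (map_one τ.th).symm)
      exact inv_eq_one.mp (Units.ext h3)
    apply hUN x hx
    rw [hxdef, hu1, map_one, one_mul]
    exact ⟨a, b, rfl⟩
  obtain ⟨n, hnN, hn1⟩ : ∃ n ∈ N, n ≠ 1 := by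
    by_contra h
    push Not at h
    exact hbot ((Subgroup.eq_bot_iff_forall N).mpr h)
  have hnB : n ∉ bor τ := fun h => hn1 (hBN n hnN h)
  obtain ⟨a0, b0, h0⟩ := exists_cell τ hnB
  set β0 := (uS τ a0 b0 * wS τ)⁻¹ * n
  have hne : n = uS τ a0 b0 * wS τ * β0 := (mul_inv_cancel_left _ _).symm
  -- a translate of `n` sends the first point to the last one
  set x := (uS τ a0 b0)⁻¹ with hx
  have hwn : ∃ β ∈ bor τ, x * n * x⁻¹ = wS τ * β := by
    refine ⟨β0 * x⁻¹, mul_mem h0 ?_, ?_⟩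
    · rw [hx, inv_inv]; exact uS_mem_bor τ a0 b0
    · rw [hne, hx]; group
  obtain ⟨β, hβ, hwe⟩ := hwn
  have hm : wS τ * β ∈ N := hwe ▸ hN.conj_mem n hnN x
  obtain ⟨v, hv⟩ := hq
  exfalso
  set t := tS τ v with ht
  -- modulo `N` the involution acts on the torus like an element of the stabiliser
  have h1 : t * (β⁻¹ * t * β) ∈ N := by
    have e : wS τ * t * wS τ = t⁻¹ := wS_tS τ v
    have h2 : (wS τ * β) * t * (wS τ * β)⁻¹ * t⁻¹ ∈ N := by
      have := mul_mem hm (hN.conj_mem _ (inv_mem hm) t)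
      simpa [mul_assoc] using this
    have h3 := hN.conj_mem _ h2 (β⁻¹ * (wS τ))
    have hw : (wS τ)⁻¹ = wS τ := inv_eq_of_mul_eq_one_right (wS_sq τ)
    have e2 : β⁻¹ * wS τ * (wS τ * β * t * (wS τ * β)⁻¹ * t⁻¹) * (β⁻¹ * wS τ)⁻¹ =
        t * (β⁻¹ * (wS τ * t⁻¹ * wS τ) * β) := by
      rw [mul_inv_rev, mul_inv_rev, inv_inv, hw]
      calc β⁻¹ * wS τ * (wS τ * β * t * (β⁻¹ * wS τ) * t⁻¹) * (wS τ * β)
          = β⁻¹ * (wS τ * wS τ) * β * t * β⁻¹ * wS τ * t⁻¹ * wS τ * β := by group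
        _ = _ := by rw [wS_sq]; group
    have e3 : wS τ * t⁻¹ * wS τ = t := by
      rw [← inv_inj]; rw [mul_inv_rev, mul_inv_rev, inv_inv, hw, ← mul_assoc, e]
    rw [e2, e3] at h3
    exact h3
  have h2 : t * (β⁻¹ * t * β) ∈ bor τ :=
    mul_mem (tS_mem_bor τ v) (mul_mem (mul_mem (inv_mem hβ) (tS_mem_bor τ v)) hβ)
  have h3 := hBN _ h1 h2
  obtain ⟨u, a, b, rfl⟩ := (mem_bor_iff τ).mp hβ
  have hct : (tS τ u)⁻¹ * t * tS τ u = t := by
    rw [ht, ← map_inv, ← map_mul, ← map_mul]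
    congr 1
    rw [mul_comm, mul_inv_cancel_left]
  have h4 : t * t = t * ((uS τ a b)⁻¹ * t * uS τ a b) * ((uS τ a b)⁻¹ * (t⁻¹ * uS τ a b * t⁻¹⁻¹))  := by
    group
  have h5 : t * ((uS τ a b)⁻¹ * t * uS τ a b) = 1 := by
    have h : (tS τ u * uS τ a b)⁻¹ * t * (tS τ u * uS τ a b) =
        (uS τ a b)⁻¹ * ((tS τ u)⁻¹ * t * tS τ u) * uS τ a b := by group
    rw [hct] at h; rw [← h]; exact h3
  rw [h5, one_mul, inv_inv] at h4
  have hmem : t * t ∈ unip τ := by
    rw [h4]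
    have h6 := tS_conj_unip τ v⁻¹ (x := uS τ a b) ⟨a, b, rfl⟩
    rw [map_inv, inv_inv] at h6
    exact mul_mem (inv_mem ⟨a, b, rfl⟩) h6
  obtain ⟨a', b', hab⟩ := hmem
  rw [ht, ← map_mul] at hab
  have hu := (bor_unique τ (u := v * v) (u' := 1) (a := 0) (b := 0) (a' := a') (b' := b')
    (by rw [uS_zero, mul_one, map_one, one_mul, hab])).1
  apply hv
  apply Units.ext
  have h7 : (v : F) ^ 2 = 1 ^ 2 := by
    rw [pow_two, ← Units.val_mul, hu, Units.val_one, one_pow]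
  exact (frobenius_inj F 2) (by simpa [frobenius_def] using h7)

end Finite

end Cfsg.Agent.SzB
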