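import Mathlib
import Cfsg.Prelude.Def_KGroupFacts
import Cfsg.Agent.Lib.SzB.Borel

/-!
# Automorphisms of the Suzuki groups
-/

set_option autoImplicit false

open scoped Matrix

namespace Cfsg.Agent.SzB

variable {F : Type*} [Field F] [CharP F 2] (τ : Twist F)

theorem th_comm (σ : F →+* F) (x : F) : τ.th (σ x) = σ (τ.th x) := by
  rw [τ.th_apply, τ.th_apply, map_pow]

theorem map_mem (σ : F →+* F) {g : GL (Fin 4) F} (hg : g ∈ Cfsg.Lie.Sz F τ.e) :
    Units.map (σ.mapMatrix : Matrix (Fin 4) (Fin 4) F →+* _).toMonoidHom g ∈ Cfsg.Lie.Sz F τ.e := by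
  obtain ⟨hJ, hs⟩ := mem_facts τ hg
  refine Subgroup.subset_closure ⟨?_, ?_⟩
  · show ∀ u v, Cfsg.Lie.altForm4 (((g : Matrix (Fin 4) (Fin 4) F).map σ) *ᵥ u)
      (((g : Matrix (Fin 4) (Fin 4) F).map σ) *ᵥ v) = Cfsg.Lie.altForm4 u v
    rw [Cfsg.Agent.SuzukiFix.preserve_iff]
    have hJσ : (Cfsg.Agent.SuzukiFix.antiJ : Matrix (Fin 4) (Fin 4) F).map σ = Cfsg.Agent.SuzukiFix.antiJ := by
      ext i j
      fin_cases i <;> fin_cases j <;> simp [Cfsg.Agent.SuzukiFix.antiJ]
    conv_lhs => rw [← hJσ]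
    rw [← Matrix.transpose_map, ← Matrix.map_mul, ← Matrix.map_mul, hJ, hJσ]
  · show Cfsg.Lie.star4 ((g : Matrix (Fin 4) (Fin 4) F).map σ) =
      ((g : Matrix (Fin 4) (Fin 4) F).map σ).map fun x => x ^ τ.e
    ext p r
    have h := congrArg σ (hs p r)
    rw [← th_comm τ σ, τ.th_apply] at h
    simp only [Cfsg.Lie.star4, Matrix.map_apply, Matrix.of_apply, map_sub, map_mul] at h ⊢
    exact h

/-- the map on the group induced by a field endomorphism -/
def fmap (σ : F →+* F) : Cfsg.Lie.Sz F τ.e →* Cfsg.Lie.Sz F τ.e where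
  toFun g := ⟨Units.map (σ.mapMatrix : Matrix (Fin 4) (Fin 4) F →+* _).toMonoidHom g.1, map_mem τ σ g.2⟩
  map_one' := Subtype.ext (map_one (Units.map (σ.mapMatrix : Matrix (Fin 4) (Fin 4) F →+* _).toMonoidHom))
  map_mul' x y := Subtype.ext
    (map_mul (Units.map (σ.mapMatrix : Matrix (Fin 4) (Fin 4) F →+* _).toMonoidHom) x.1 y.1)

theorem fmap_coe (σ : F →+* F) (g : Cfsg.Lie.Sz F τ.e) :
    ((fmap τ σ g : GL (Fin 4) F) : Matrix (Fin 4) (Fin 4) F) = (g : GL (Fin 4) F).1.map σ := rfl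

/-- field automorphisms as group automorphisms -/
def faut : (F ≃+* F) →* MulAut (Cfsg.Lie.Sz F τ.e) where
  toFun σ :=
    { fmap τ (σ : F →+* F) with
      invFun := fmap τ (σ.symm : F →+* F)
      left_inv := fun g => Subtype.ext (Units.ext (by
        show ((g : GL (Fin 4) F).1.map σ).map σ.symm = _
        rw [Matrix.map_map]
        ext i j; simp))
      right_inv := fun g => Subtype.ext (Units.ext (by
        show ((g : GL (Fin 4) F).1.map σ.symm).map σ = _
        rw [Matrix.map_map]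
        ext i j; simp)) }
  map_one' := by
    refine MulEquiv.ext fun g => Subtype.ext (Units.ext ?_)
    ext i j; rfl
  map_mul' σ τ' := by
    refine MulEquiv.ext fun g => Subtype.ext (Units.ext ?_)
    ext i j; rfl

theorem faut_lS (σ : F ≃+* F) (a b : F) : faut τ σ (lS τ a b) = lS τ (σ a) (σ b) := by
  apply Subtype.ext
  apply Units.ext
  show (lm τ a b).map σ = lm τ (σ a) (σ b)
  ext i j
  fin_cases i <;> fin_cases j <;>
    simp [lm, corner, map_add, map_mul, map_pow, ← th_comm τ (σ : F →+* F)] <;>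
    simp [τ.th_apply, map_pow]

theorem faut_wS (σ : F ≃+* F) : faut τ σ (wS τ) = wS τ := by
  apply Subtype.ext
  apply Units.ext
  show (Cfsg.Agent.SuzukiFix.antiJ : Matrix (Fin 4) (Fin 4) F).map σ = Cfsg.Agent.SuzukiFix.antiJ
  ext i j
  fin_cases i <;> fin_cases j <;> simp [Cfsg.Agent.SuzukiFix.antiJ]

theorem faut_uS (σ : F ≃+* F) (a b : F) : faut τ σ (uS τ a b) = uS τ (σ a) (σ b) := by
  rw [uS, map_mul, map_mul, faut_lS, faut_wS, uS]

theorem faut_tS (σ : F ≃+* F) (u : Fˣ) :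
    faut τ σ (tS τ u) = tS τ (Units.map (σ : F →+* F).toMonoidHom u) := by
  apply Subtype.ext
  apply Units.ext
  show (tm τ u).map σ = tm τ (Units.map (σ : F →+* F).toMonoidHom u)
  ext i j
  fin_cases i <;> fin_cases j <;> simp [tm, map_div₀, τ.th_apply, map_pow]

variable [Fintype F]

theorem th_surj : Function.Surjective τ.th := Finite.injective_iff_surjective.mp τ.th.injective

theorem chi_inj {u : Fˣ} (h : τ.th (u : F) / (u : F) ^ 2 = 1) : u = 1 := by
  rw [div_eq_one_iff_eq (pow_ne_zero 2 u.ne_zero)] at h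
  have h' := τ.th_th (u : F)
  rw [h, map_pow, h] at h'
  have hv2 : (u : F) ^ 2 = 1 := by
    have hne : (u : F) ^ 2 ≠ 0 := pow_ne_zero 2 u.ne_zero
    apply mul_left_cancel₀ hne
    rw [mul_one]; linear_combination h'
  exact Units.ext ((frobenius_inj F 2) (by simpa [frobenius_def] using hv2))

theorem chi_surj {a : F} (ha : a ≠ 0) : ∃ u : Fˣ, τ.th (u : F) / (u : F) ^ 2 = a := by
  let χ : Fˣ → Fˣ := fun u =>
    Units.mk0 (τ.th (u : F) / (u : F) ^ 2)
      (div_ne_zero (fun h => u.ne_zero (τ.th_inj h)) (pow_ne_zero 2 u.ne_zero))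
  have hinj : Function.Injective χ := by
    intro u v h
    have h' : τ.th (u : F) / (u : F) ^ 2 = τ.th (v : F) / (v : F) ^ 2 := congrArg Units.val h
    refine mul_inv_eq_one.mp (chi_inj τ ?_)
    have hv : τ.th (v : F) ≠ 0 := fun h => v.ne_zero (τ.th_inj h)
    rw [Units.val_mul, Units.val_inv_eq_inv_val, map_mul, map_inv₀, mul_pow, inv_pow]
    calc τ.th (u : F) * (τ.th (v : F))⁻¹ / ((u : F) ^ 2 * ((v : F) ^ 2)⁻¹)
        = (τ.th (u : F) / (u : F) ^ 2) / (τ.th (v : F) / (v : F) ^ 2) := by field_simp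
      _ = 1 := by rw [h', div_self (div_ne_zero hv (pow_ne_zero 2 v.ne_zero))]
  obtain ⟨u, hu⟩ := (Finite.injective_iff_surjective.mp hinj) (Units.mk0 a ha)
  exact ⟨u, congrArg Units.val hu⟩

/-- An automorphism fixing the stabiliser pointwise is trivial. -/
theorem rigid (hq : ∃ u : Fˣ, u ≠ 1) (α : MulAut (Cfsg.Lie.Sz F τ.e))
    (h : ∀ g ∈ bor τ, α g = g) : α = 1 := by
  obtain ⟨v, hv⟩ := hq
  -- the last point is fixed
  have hw : (wS τ)⁻¹ * α (wS τ) ∈ bor τ := by
    have hnot : α (wS τ) ∉ bor τ := fun hm => by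
      have : wS τ = α (wS τ) := by
        have := h _ hm
        exact (α.injective this).symm
      rw [← this] at hm
      have := uw_not_mem τ 0 0
      rw [uS_zero, one_mul] at this
      exact this hm
    obtain ⟨a, b, hab⟩ := exists_cell τ hnot
    set x := uS τ a b * wS τ with hx
    -- the torus fixes that point
    have hfix : ∀ u, x⁻¹ * (tS τ u * x) ∈ bor τ := by
      intro u
      have he : tS τ u * α (wS τ) = α (wS τ) * tS τ u⁻¹ := by
        have e : tS τ u * wS τ = wS τ * tS τ u⁻¹ := by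
          rw [map_inv, ← wS_tS, ← mul_assoc, ← mul_assoc, wS_sq, one_mul]
        have := congrArg α e
        rwa [map_mul, map_mul, h _ (tS_mem_bor τ u), h _ (tS_mem_bor τ u⁻¹)] at this
      have e2 : x⁻¹ * (tS τ u * x) = (x⁻¹ * α (wS τ)) * tS τ u⁻¹ * (x⁻¹ * α (wS τ))⁻¹ := by
        rw [mul_assoc x⁻¹, ← he]; group
      rw [e2]
      exact mul_mem (mul_mem hab (tS_mem_bor τ _)) (inv_mem hab)
    have h1 := hfix v
    have e3 : tS τ v * x =
        uS τ (a * τ.th (v⁻¹ : Fˣ) / ((v⁻¹ : Fˣ) : F) ^ 2) (b / τ.th (v⁻¹ : Fˣ)) * wS τ * tS τ v⁻¹ := by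
      rw [hx, ← tS_uS]
      have e : tS τ v * wS τ = wS τ * tS τ v⁻¹ := by
        rw [map_inv, ← wS_tS, ← mul_assoc, ← mul_assoc, wS_sq, one_mul]
      rw [map_inv] at e
      calc tS τ v * (uS τ a b * wS τ)
          = tS τ v * uS τ a b * (tS τ v)⁻¹ * (tS τ v * wS τ) := by group
        _ = _ := by rw [e, map_inv]; group
    rw [e3, ← mul_assoc] at h1
    have h2 := mul_mem h1 (inv_mem (tS_mem_bor τ v⁻¹))
    rw [mul_inv_cancel_right, hx] at h2
    obtain ⟨ha, hb⟩ := cell_unique τ h2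
    have hv' : v⁻¹ ≠ 1 := fun h => hv (inv_eq_one.mp h)
    have ha0 : a = 0 := by
      by_contra hne
      apply hv'
      apply chi_inj τ
      apply mul_left_cancel₀ hne
      rw [mul_one, ← mul_div_assoc]
      exact ha.symm
    have hb0 : b = 0 := by
      by_contra hne
      apply hv'
      apply Units.ext
      apply τ.th.injective
      rw [Units.val_one, map_one]
      have ht : τ.th ((v⁻¹ : Fˣ) : F) ≠ 0 := fun h => (v⁻¹).ne_zero (τ.th_inj h)
      field_simp at hb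
      linear_combination hb
    rw [hx, ha0, hb0, uS_zero, one_mul] at hab
    exact hab
  have hall : ∀ g, g⁻¹ * α g ∈ bor τ := by
    intro g
    by_cases hg : g ∈ bor τ
    · rw [h g hg, inv_mul_cancel]; exact one_mem _
    obtain ⟨a, b, hab⟩ := exists_cell τ hg
    set β := (uS τ a b * wS τ)⁻¹ * g with hβ
    have hge : g = uS τ a b * wS τ * β := by rw [hβ, mul_inv_cancel_left]
    have e : g⁻¹ * α g = β⁻¹ * ((wS τ)⁻¹ * α (wS τ)) * β := by
      conv_lhs => rw [hge]
      rw [map_mul, map_mul, h _ (uS_mem_bor τ a b), h _ hab]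
      group
    rw [e]
    exact mul_mem (mul_mem (inv_mem hab) hw) hab
  refine MulEquiv.ext fun g => ?_
  have hcore : g⁻¹ * α g ∈ (bor τ).normalCore := by
    intro x
    have h1 := hall (g * x⁻¹)
    have h2 := hall x⁻¹
    rw [inv_inv] at h2
    have e : x * (g⁻¹ * α g) * x⁻¹ = ((g * x⁻¹)⁻¹ * α (g * x⁻¹)) * (x * α x⁻¹)⁻¹ := by
      rw [map_mul, mul_inv_rev, mul_inv_rev, inv_inv]; group
    rw [e]
    exact mul_mem h1 (inv_mem h2)
  have hsimple := simple τ ⟨v, hv⟩
  rcases hsimple.eq_bot_or_eq_top_of_normal _ (Subgroup.normalCore_normal (bor τ)) with hb | hb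
  · rw [hb, Subgroup.mem_bot] at hcore
    exact (inv_mul_eq_one.mp hcore).symm
  · exfalso
    have : wS τ ∈ bor τ := Subgroup.normalCore_le _ (hb ▸ Subgroup.mem_top _)
    have h' := uw_not_mem τ 0 0
    rw [uS_zero, one_mul] at h'
    exact h' this

omit [Fintype F] in
theorem comm_uS_center (a b c : F) : uS τ a b * uS τ 0 c = uS τ 0 c * uS τ a b := by
  rw [uS_mul, uS_mul]; simp [add_comm]

theorem exists_noncomm (hq : ∃ u : Fˣ, u ≠ 1) {a : F} (ha : a ≠ 0) (b : F) :
    ∃ y, uS τ a b * uS τ y 0 ≠ uS τ y 0 * uS τ a b := by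
  by_contra h
  push Not at h
  obtain ⟨y, hy⟩ := exists_th_ne τ hq
  have key : ∀ y, τ.th a * y = τ.th y * a := fun y => by
    have := h y
    rw [uS_mul, uS_mul] at this
    obtain ⟨-, h2⟩ := uS_inj τ this
    linear_combination h2
  have h1 := key 1
  rw [mul_one, map_one, one_mul] at h1
  have h2 := key y
  rw [h1, mul_comm a y] at h2
  exact hy (mul_right_cancel₀ ha h2).symm

/-- Every automorphism fixing the point is inner times field, in normalised form. -/
theorem normal_form_torus (hq : ∃ u : Fˣ, u ≠ 1) (α : MulAut (Cfsg.Lie.Sz F τ.e))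
    (hU : ∀ g, α g ∈ unip τ ↔ g ∈ unip τ) :
    ∃ (x : Cfsg.Lie.Sz F τ.e) (μ : Fˣ →* Fˣ), x ∈ unip τ ∧
      ∀ u, x⁻¹ * α (tS τ u) * x = tS τ (μ u) := by
  classical
  have hB : ∀ g ∈ bor τ, α g ∈ bor τ := by
    intro g hg
    rw [← normalizer_unip, Subgroup.mem_set_normalizer_iff] at hg ⊢
    intro y
    obtain ⟨z, rfl⟩ := α.surjective y
    show α z ∈ unip τ ↔ α g * α z * (α g)⁻¹ ∈ unip τ
    rw [← map_inv, ← map_mul, ← map_mul, hU, hU]
    exact hg z
  obtain ⟨ζ, hζ⟩ := IsCyclic.exists_generator (α := Fˣ)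
  obtain ⟨v, a, b, hab⟩ := (mem_bor_iff τ).mp (hB _ (tS_mem_bor τ ζ))
  have hv1 : v ≠ 1 := by
    intro hv
    rw [hv, map_one, one_mul] at hab
    have : α (tS τ ζ) ∈ unip τ := ⟨a, b, hab⟩
    rw [hU] at this
    obtain ⟨a', b', h'⟩ := this
    have := (bor_unique τ (u := ζ) (u' := 1) (a := 0) (b := 0) (a' := a') (b' := b')
      (by rw [uS_zero, mul_one, map_one, one_mul, h'])).1
    obtain ⟨w, hw⟩ := hq
    obtain ⟨n, hn⟩ := hζ w
    exact hw (by rw [← hn, this]; simp)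
  -- conjugate into the torus
  let f : unip τ → unip τ := fun x =>
    ⟨(tS τ v)⁻¹ * (x : Cfsg.Lie.Sz F τ.e) * tS τ v * (x : Cfsg.Lie.Sz F τ.e)⁻¹, mul_mem (by
      have := tS_conj_unip τ v⁻¹ x.2
      rwa [map_inv, inv_inv] at this) (inv_mem x.2)⟩
  have hfinj : Function.Injective f := by
    intro x y hxy
    have h := congrArg Subtype.val hxy
    simp only [f] at h
    have hcomm : tS τ v * ((y : Cfsg.Lie.Sz F τ.e)⁻¹ * x) * (tS τ v)⁻¹ = (y : Cfsg.Lie.Sz F τ.e)⁻¹ * x := by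
      have e : (x : Cfsg.Lie.Sz F τ.e) = tS τ v * ((tS τ v)⁻¹ * x * tS τ v * (x : Cfsg.Lie.Sz F τ.e)⁻¹) * x *
        (tS τ v)⁻¹ := by group
      rw [h] at e
      calc tS τ v * ((y : Cfsg.Lie.Sz F τ.e)⁻¹ * x) * (tS τ v)⁻¹
          = (y : Cfsg.Lie.Sz F τ.e)⁻¹ *
              (tS τ v * ((tS τ v)⁻¹ * y * tS τ v * (y : Cfsg.Lie.Sz F τ.e)⁻¹) * x * (tS τ v)⁻¹) := by group
        _ = _ := by rw [← e]
    obtain ⟨a', b', hz⟩ := mul_mem (inv_mem y.2) x.2
    rw [hz, tS_uS] at hcomm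
    obtain ⟨h1, h2⟩ := uS_inj τ hcomm
    have hv' : v⁻¹ ≠ 1 := fun h => hv1 (inv_eq_one.mp h)
    have ha0 : a' = 0 := by
      by_contra hne
      apply hv'
      apply chi_inj τ
      apply mul_left_cancel₀ hne
      rw [mul_one, ← mul_div_assoc]; exact h1
    have hb0 : b' = 0 := by
      by_contra hne
      apply hv'
      apply Units.ext
      apply τ.th.injective
      rw [Units.val_one, map_one]
      have ht : τ.th ((v⁻¹ : Fˣ) : F) ≠ 0 := fun h => (v⁻¹).ne_zero (τ.th_inj h)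
      field_simp at h2
      linear_combination -h2
    rw [ha0, hb0, uS_zero] at hz
    exact Subtype.ext (inv_mul_eq_one.mp hz).symm
  obtain ⟨x, hx⟩ := (Finite.injective_iff_surjective.mp hfinj) ⟨uS τ a b, a, b, rfl⟩
  have hx' : (tS τ v)⁻¹ * (x : Cfsg.Lie.Sz F τ.e) * tS τ v * (x : Cfsg.Lie.Sz F τ.e)⁻¹ = uS τ a b :=
    congrArg Subtype.val hx
  have hgen : (x : Cfsg.Lie.Sz F τ.e)⁻¹ * α (tS τ ζ) * x = tS τ v := by
    rw [hab, ← hx']; group
  have hall : ∀ u, ∃ w, (x : Cfsg.Lie.Sz F τ.e)⁻¹ * α (tS τ u) * x = tS τ w := by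
    intro u
    obtain ⟨n, rfl⟩ := hζ u
    refine ⟨v ^ n, ?_⟩
    show (x : Cfsg.Lie.Sz F τ.e)⁻¹ * α (tS τ (ζ ^ n)) * x = tS τ (v ^ n)
    rw [map_zpow, map_zpow, map_zpow, ← hgen]
    have := (map_zpow (MulAut.conj (x : Cfsg.Lie.Sz F τ.e)⁻¹) (α (tS τ ζ)) n)
    simpa [MulAut.conj_apply] using this
  choose μ hμ using hall
  have htinj : ∀ u u', tS τ u = tS τ u' → u = u' := fun u u' h =>
    (bor_unique τ (u := u) (u' := u') (a := 0) (b := 0) (a' := 0) (b' := 0) (by rw [h])).1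
  refine ⟨x, MonoidHom.mk' μ fun u u' => htinj _ _ ?_, x.2, hμ⟩
  rw [← hμ, map_mul (tS τ), map_mul (tS τ), map_mul α, ← hμ, ← hμ]
  group

/-- Every automorphism is inner times field. -/
theorem aut_decomp (hq : ∃ u : Fˣ, u ≠ 1) (hsyl : ∃ S : Sylow 2 (Cfsg.Lie.Sz F τ.e),
      (S : Subgroup (Cfsg.Lie.Sz F τ.e)) = unip τ)
    (α : MulAut (Cfsg.Lie.Sz F τ.e)) :
    ∃ (g : Cfsg.Lie.Sz F τ.e) (σ : F ≃+* F), α = MulAut.conj g * faut τ σ := by
  classical
  haveI : Fact (Nat.Prime 2) := ⟨Nat.prime_two⟩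
  obtain ⟨S, hS⟩ := hsyl
  obtain ⟨y, hy⟩ := MulAction.exists_smul_eq (Cfsg.Lie.Sz F τ.e) S (S.comapOfInjective α.toMonoidHom α.injective
    (fun z _ => α.surjective z))
  -- move the unipotent subgroup back
  have hy' : ∀ g, α g ∈ unip τ ↔ y⁻¹ * g * y ∈ unip τ := by
    intro g
    have h := SetLike.ext_iff.mp (congrArg Sylow.toSubgroup hy) g
    rw [Sylow.coe_subgroup_smul, Subgroup.mem_pointwise_smul_iff_inv_smul_mem] at h
    change _ ↔ α g ∈ (S : Subgroup (Cfsg.Lie.Sz F τ.e)) at h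
    rw [hS] at h
    simpa [MulAut.smul_def, MulAut.inv_def, MulAut.conj_symm_apply] using h.symm
  set α1 := α * MulAut.conj y with hα1
  have hU1 : ∀ g, α1 g ∈ unip τ ↔ g ∈ unip τ := by
    intro g
    rw [hα1, MulAut.mul_apply, MulAut.conj_apply, hy']
    simp [mul_assoc]
  obtain ⟨x, μ, hxU, hx⟩ := normal_form_torus τ hq α1 hU1
  set α2 := MulAut.conj x⁻¹ * α1 with hα2
  have ht2 : ∀ u, α2 (tS τ u) = tS τ (μ u) := fun u => by
    rw [hα2, MulAut.mul_apply, MulAut.conj_apply, inv_inv]; exact hx u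
  have hU2 : ∀ g, α2 g ∈ unip τ ↔ g ∈ unip τ := by
    intro g
    rw [hα2, MulAut.mul_apply, MulAut.conj_apply, inv_inv, ← hU1 g]
    refine ⟨fun h => ?_, fun h => mul_mem (mul_mem (inv_mem hxU) h) hxU⟩
    have := mul_mem (mul_mem hxU h) (inv_mem hxU)
    simpa [mul_assoc] using this
  -- the centre
  have hcen : ∀ b, ∃ c, α2 (uS τ 0 b) = uS τ 0 c := by
    intro b
    obtain ⟨a', c, hac⟩ := (hU2 _).mpr ⟨0, b, rfl⟩
    by_cases ha : a' = 0
    · exact ⟨c, by rw [hac, ha]⟩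
    exfalso
    obtain ⟨z, hz⟩ := exists_noncomm τ hq ha c
    apply hz
    obtain ⟨w, hw⟩ := α2.surjective (uS τ z 0)
    obtain ⟨a'', b'', hw'⟩ := (hU2 w).mp (by rw [hw]; exact ⟨z, 0, rfl⟩)
    rw [← hac, ← hw, hw', ← map_mul, ← map_mul, comm_uS_center]
  choose f hf using hcen
  have hfadd : ∀ b c, f (b + c) = f b + f c := by
    intro b c
    have h := congrArg α2 (show uS τ 0 b * uS τ 0 c = uS τ 0 (b + c) by rw [uS_mul]; simp)
    rw [map_mul, hf, hf, hf, uS_mul] at h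
    have := (uS_inj τ h).2
    simpa using this.symm
  have hfinj : Function.Injective f := fun b c h => (uS_inj τ (α2.injective ((hf b).trans (by rw [h, hf])))).2
  have hf0 : f 0 = 0 := by
    have := hfadd 0 0; rw [add_zero] at this; exact left_eq_add.mp this
  have hequiv : ∀ (u : Fˣ) (b : F),
      f (b / τ.th ((u⁻¹ : Fˣ) : F)) = f b / τ.th (((μ u)⁻¹ : Fˣ) : F) := by
    intro u b
    have h := congrArg α2 (tS_uS τ u 0 b)
    rw [map_mul, map_mul, map_inv, ht2, hf, tS_uS, zero_mul, zero_div, zero_mul, zero_div, hf] at h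
    exact (uS_inj τ h).2.symm
  have hf1 : f 1 ≠ 0 := fun h => one_ne_zero (hfinj (h.trans hf0.symm))
  obtain ⟨r, hr⟩ := th_surj τ (f 1)
  have hr0 : r ≠ 0 := by rintro rfl; exact hf1 (by rw [← hr, map_zero])
  have hμf : ∀ u : Fˣ, f (τ.th (u : F)) = f 1 * τ.th ((μ u : Fˣ) : F) := by
    intro u
    have h := hequiv u 1
    simp only [Units.val_inv_eq_inv_val, map_inv₀, div_inv_eq_mul, one_mul] at h
    exact h
  have hfmul : ∀ a b, f (a * b) * f 1 = f a * f b := by
    intro a b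
    by_cases hb : b = 0
    · simp [hb, hf0]
    obtain ⟨u, hu⟩ := th_surj τ b
    have hu0 : u ≠ 0 := by rintro rfl; exact hb (by rw [← hu, map_zero])
    have h := hequiv (Units.mk0 u hu0) a
    have h' := hμf (Units.mk0 u hu0)
    simp only [Units.val_inv_eq_inv_val, map_inv₀, div_inv_eq_mul, Units.val_mk0, hu] at h h'
    rw [h, h']; ring
  let σh : F →+* F :=
    { toFun := fun b => f b / f 1
      map_one' := div_self hf1
      map_zero' := by rw [hf0, zero_div]
      map_add' := fun a b => by rw [hfadd, add_div]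
      map_mul' := fun a b => by
        rw [div_mul_div_comm, ← hfmul, mul_div_mul_right _ _ hf1] }
  let σ : F ≃+* F := RingEquiv.ofBijective σh ⟨σh.injective, Finite.injective_iff_surjective.mp σh.injective⟩
  have hσ : ∀ b, σ b = f b / f 1 := fun b => rfl
  have hμσ : ∀ u, μ u = Units.map (σ : F →+* F).toMonoidHom u := by
    intro u
    apply Units.ext
    apply τ.th.injective
    show τ.th ((μ u : Fˣ) : F) = τ.th (σ (u : F))
    rw [show τ.th (σ (u : F)) = σ (τ.th (u : F)) from th_comm τ (σ : F →+* F) u, hσ, hμf,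
      mul_div_cancel_left₀ _ hf1]
  set t := tS τ (Units.mk0 r hr0) with htdef
  set α3 := (faut τ σ)⁻¹ * (MulAut.conj t⁻¹ * α2) with hα3
  have htU : ∀ b, t⁻¹ * uS τ 0 (f b) * t = uS τ 0 (σ b) := by
    intro b
    have := tS_uS τ (Units.mk0 r hr0)⁻¹ 0 (f b)
    rw [map_inv, inv_inv, inv_inv, Units.val_mk0, hr, zero_mul, zero_div] at this
    rw [htdef, this, hσ]
  have h3U : ∀ b, α3 (uS τ 0 b) = uS τ 0 b := by
    intro b
    rw [hα3, MulAut.mul_apply, MulAut.mul_apply, MulAut.conj_apply, inv_inv, hf, htU]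
    apply (faut τ σ).injective
    rw [MulAut.apply_inv_self, faut_uS, map_zero]
  have h3t : ∀ u, α3 (tS τ u) = tS τ u := by
    intro u
    rw [hα3, MulAut.mul_apply, MulAut.mul_apply, MulAut.conj_apply, inv_inv, ht2]
    apply (faut τ σ).injective
    rw [MulAut.apply_inv_self, faut_tS, ← hμσ, htdef, ← map_inv, ← map_mul, ← map_mul]
    congr 1
    rw [mul_comm, mul_inv_cancel_left]
  have h3mem : ∀ g, g ∈ unip τ → α3 g ∈ unip τ := by
    intro g hg
    rw [hα3, MulAut.mul_apply, MulAut.mul_apply, MulAut.conj_apply, inv_inv]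
    have h1 : t⁻¹ * α2 g * t ∈ unip τ := by
      have := tS_conj_unip τ (Units.mk0 r hr0)⁻¹ ((hU2 g).mpr hg)
      rwa [map_inv, inv_inv] at this
    obtain ⟨a, b, hab⟩ := h1
    refine ⟨σ.symm a, σ.symm b, ?_⟩
    apply (faut τ σ).injective
    rw [MulAut.apply_inv_self, faut_uS, RingEquiv.apply_symm_apply, RingEquiv.apply_symm_apply, hab]
  choose g z hgz using fun a => h3mem _ ⟨a, 0, rfl⟩
  have hgzadd : ∀ a c, g (a + c) = g a + g c ∧ z (a + c) + τ.th a * c = z a + z c + τ.th (g a) * g c := by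
    intro a c
    have e : uS τ a 0 * uS τ c 0 = uS τ (a + c) 0 * uS τ 0 (τ.th a * c) := by
      rw [uS_mul, uS_mul]; simp
    have h := congrArg α3 e
    rw [map_mul, map_mul, hgz, hgz, hgz, h3U, uS_mul, uS_mul] at h
    obtain ⟨h1, h2⟩ := uS_inj τ h
    refine ⟨?_, ?_⟩
    · simpa using h1.symm
    · rw [mul_zero, add_zero] at h2; exact h2.symm
  have hgzeq : ∀ (u : Fˣ) (a : F), g (a * (τ.th (u : F) / (u : F) ^ 2)) = g a * (τ.th (u : F) / (u : F) ^ 2) ∧
      z (a * (τ.th (u : F) / (u : F) ^ 2)) = z a / τ.th (u : F) := by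
    intro u a
    have h := congrArg α3 (tS_uS τ u⁻¹ a 0)
    rw [map_mul, map_mul, map_inv α3, h3t, hgz, tS_uS, inv_inv, zero_div, mul_div_assoc, mul_div_assoc, hgz] at h
    obtain ⟨h1, h2⟩ := uS_inj τ h
    exact ⟨h1.symm, h2.symm⟩
  have hg0 : g 0 = 0 := by
    have := (hgzadd 0 0).1; rw [add_zero] at this; exact left_eq_add.mp this
  have hgc : ∀ a, g a = a * g 1 := by
    intro a
    by_cases ha : a = 0
    · rw [ha, hg0, zero_mul]
    obtain ⟨u, hu⟩ := chi_surj τ ha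
    have := (hgzeq u 1).1
    rw [one_mul, hu] at this
    rw [this, mul_comm]
  have hg1 : g 1 = 1 := by
    have e : uS τ 1 0 * uS τ 1 0 = uS τ 0 1 := by
      rw [uS_mul, CharTwo.add_self_eq_zero]; simp
    have h := congrArg α3 e
    rw [map_mul, hgz, h3U, uS_mul] at h
    obtain ⟨-, h2⟩ := uS_inj τ h
    rw [CharTwo.add_self_eq_zero, zero_add] at h2
    have hne : g 1 ≠ 0 := by intro h0; rw [h0, mul_zero] at h2; exact zero_ne_one h2
    have ht : τ.th (g 1) = (g 1)⁻¹ := eq_inv_of_mul_eq_one_left h2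
    have h4 := τ.th_th (g 1)
    rw [ht, map_inv₀, ht, inv_inv] at h4
    have : g 1 * (g 1 - 1) = 0 := by linear_combination -h4
    rcases mul_eq_zero.mp this with h5 | h5
    · exact absurd h5 hne
    · exact sub_eq_zero.mp h5
  have hzadd : ∀ a c, z (a + c) = z a + z c := by
    intro a c
    have h := (hgzadd a c).2
    rw [hgc a, hgc c, hg1, mul_one, mul_one] at h
    exact add_right_cancel h
  have hz0 : z 0 = 0 := by
    have := hzadd 0 0; rw [add_zero] at this; exact left_eq_add.mp this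
  have hz1 : z 1 = 0 := by
    by_contra hne
    obtain ⟨v0, hv0⟩ := exists_th_ne τ hq
    let ψ : F →+* F :=
      { toFun := fun a => z a / z 1
        map_one' := div_self hne
        map_zero' := by rw [hz0, zero_div]
        map_add' := fun a b => by rw [hzadd, add_div]
        map_mul' := fun a b => by
          by_cases hb : b = 0
          · simp [hb, hz0]
          obtain ⟨u, hu⟩ := chi_surj τ hb
          have h1 := (hgzeq u a).2
          have h2 := (hgzeq u 1).2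
          rw [hu] at h1
          rw [one_mul, hu] at h2
          rw [h1, h2]
          field_simp }
    have hkey : ∀ v : F, v ≠ 0 → ψ v = v * τ.th v := by
      intro v hv
      have ht : τ.th v ≠ 0 := fun h => hv (τ.th_inj h)
      have h1 : ψ (τ.th v / v ^ 2) = (τ.th v)⁻¹ := by
        show z (τ.th v / v ^ 2) / z 1 = (τ.th v)⁻¹
        have := (hgzeq (Units.mk0 v hv) 1).2
        rw [Units.val_mk0, one_mul] at this
        rw [this]; field_simp
      rw [map_div₀, map_pow, ← th_comm τ ψ] at h1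
      set y := ψ v
      have hy : y ≠ 0 := (map_ne_zero ψ).mpr hv
      have h2 : τ.th y * τ.th v = y ^ 2 := by field_simp at h1; linear_combination h1
      have h3 := congrArg τ.th h2
      rw [map_mul, τ.th_th, τ.th_th, map_pow] at h3
      have h4 : τ.th y = y * v := by
        apply frobenius_inj F 2
        simp only [frobenius_def]
        rw [mul_pow]; exact h3.symm
      rw [h4] at h2
      apply mul_left_cancel₀ hy
      linear_combination -h2
    have hv00 : v0 ≠ 0 := by rintro rfl; exact hv0 (map_zero τ.th)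
    by_cases hv01 : 1 + v0 = 0
    · have : v0 = 1 := (CharTwo.add_eq_zero.mp hv01).symm
      exact hv0 (by rw [this, map_one])
    have h := hkey _ hv01
    rw [map_add, map_one, hkey v0 hv00, map_add, map_one] at h
    apply hv0
    refine CharTwo.add_eq_zero.mp ?_
    linear_combination -h
  have hzall : ∀ a, z a = 0 := by
    intro a
    by_cases ha : a = 0
    · rw [ha, hz0]
    obtain ⟨u, hu⟩ := chi_surj τ ha
    have := (hgzeq u 1).2
    rw [one_mul, hu, hz1, zero_div] at this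
    exact this
  have hfixB : ∀ b ∈ bor τ, α3 b = b := by
    intro b hb
    obtain ⟨u, a, c, rfl⟩ := (mem_bor_iff τ).mp hb
    have e : uS τ a c = uS τ a 0 * uS τ 0 c := by rw [uS_mul]; simp
    rw [map_mul, h3t, e, map_mul, hgz, h3U, hgc, hg1, mul_one, hzall]
  have h1 := rigid τ hq α3 hfixB
  rw [hα3, inv_mul_eq_one, hα2, hα1] at h1
  refine ⟨x * t * faut τ σ y⁻¹, σ, MulEquiv.ext fun k => ?_⟩
  rw [h1]
  simp only [MulAut.mul_apply, MulAut.conj_apply, inv_inv, map_inv α, map_mul α]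
  group

/-- An inner field automorphism is trivial. -/
theorem inner_field {σ : F ≃+* F} {g : Cfsg.Lie.Sz F τ.e} (h : MulAut.conj g = faut τ σ) : σ = 1 := by
  have hc : ∀ k, g * k * g⁻¹ = faut τ σ k := fun k => by rw [← h, MulAut.conj_apply]
  have hgB : g ∈ bor τ := by
    rw [← normalizer_unip, Subgroup.mem_set_normalizer_iff]
    intro k
    rw [hc]
    constructor
    · rintro ⟨a, b, rfl⟩; exact ⟨σ a, σ b, faut_uS τ σ a b⟩
    · rintro ⟨a, b, hab⟩
      refine ⟨σ.symm a, σ.symm b, ?_⟩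
      apply (faut τ σ).injective
      rw [hab, faut_uS, RingEquiv.apply_symm_apply, RingEquiv.apply_symm_apply]
  obtain ⟨u, a, b, rfl⟩ := (mem_bor_iff τ).mp hgB
  have hw := hc (wS τ)
  rw [faut_wS] at hw
  set g := tS τ u * uS τ a b with hg
  have h1 : (uS τ 0 0 * wS τ)⁻¹ * (g * (uS τ 0 0 * wS τ)) ∈ bor τ := by
    rw [uS_zero, one_mul]
    have e : g * wS τ = wS τ * g := mul_inv_eq_iff_eq_mul.mp hw
    rw [e, inv_mul_cancel_left]
    exact hgB
  have e2 : g * (uS τ 0 0 * wS τ) =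
      uS τ (a * τ.th (u⁻¹ : Fˣ) / ((u⁻¹ : Fˣ) : F) ^ 2) (b / τ.th (u⁻¹ : Fˣ)) * wS τ * (tS τ u)⁻¹ := by
    rw [hg, uS_zero, one_mul, ← tS_uS]
    have e : tS τ u * wS τ = wS τ * (tS τ u)⁻¹ := by
      rw [← wS_tS, ← mul_assoc, ← mul_assoc, wS_sq, one_mul]
    calc tS τ u * uS τ a b * wS τ = tS τ u * uS τ a b * (tS τ u)⁻¹ * (tS τ u * wS τ) := by group
      _ = _ := by rw [e]; group
  rw [e2, ← mul_assoc] at h1
  have h2 := mul_mem h1 (tS_mem_bor τ u)
  rw [inv_mul_cancel_right] at h2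
  obtain ⟨ha, hb⟩ := cell_unique τ h2
  have hu' : ((u⁻¹ : Fˣ) : F) ≠ 0 := Units.ne_zero _
  have ht' : τ.th ((u⁻¹ : Fˣ) : F) ≠ 0 := fun h => hu' (τ.th_inj h)
  have ha0 : a = 0 := by
    rw [eq_comm, div_eq_zero_iff, mul_eq_zero] at ha
    rcases ha with (ha | ha) | ha
    · exact ha
    · exact absurd ha ht'
    · exact absurd ha (pow_ne_zero 2 hu')
  have hb0 : b = 0 := by
    rw [eq_comm, div_eq_zero_iff] at hb
    exact hb.resolve_right ht'
  have hgt : g = tS τ u := by rw [hg, ha0, hb0, uS_zero, mul_one]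
  have hU : ∀ c, c / τ.th (u⁻¹ : Fˣ) = σ c := fun c => by
    have := hc (uS τ 0 c)
    rw [hgt, tS_uS, faut_uS, zero_mul, zero_div] at this
    exact (uS_inj τ this).2
  refine RingEquiv.ext fun c => ?_
  have h3 := hU 1
  rw [map_one] at h3
  rw [← hU c]
  show c / τ.th (u⁻¹ : Fˣ) = c
  rw [div_eq_one_iff_eq ht'] at h3
  rw [← h3, div_one]

/-- The outer automorphism group corresponds to the field automorphisms. -/
theorem card_out (hq : ∃ u : Fˣ, u ≠ 1) (hsyl : ∃ S : Sylow 2 (Cfsg.Lie.Sz F τ.e),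
      (S : Subgroup (Cfsg.Lie.Sz F τ.e)) = unip τ) :
    Nat.card (Cfsg.Out ↥(Cfsg.Lie.Sz F τ.e)) = Nat.card (F ≃+* F) := by
  let Ψ : (F ≃+* F) →* Cfsg.Out ↥(Cfsg.Lie.Sz F τ.e) :=
    (QuotientGroup.mk' _).comp (faut τ)
  have hbij : Function.Bijective Ψ := by
    constructor
    · refine (injective_iff_map_eq_one Ψ).mpr fun σ h => ?_
      obtain ⟨g, hg⟩ := (QuotientGroup.eq_one_iff _).mp h
      exact inner_field τ hg
    · intro c
      obtain ⟨α, rfl⟩ := QuotientGroup.mk'_surjective _ c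
      obtain ⟨g, σ, h⟩ := aut_decomp τ hq hsyl α
      refine ⟨σ, ?_⟩
      refine QuotientGroup.eq.mpr ?_
      rw [h]
      refine ⟨(faut τ σ).symm g, MulEquiv.ext fun k => ?_⟩
      apply (faut τ σ).injective
      show faut τ σ ((faut τ σ).symm g * k * ((faut τ σ).symm g)⁻¹) =
        faut τ σ ((faut τ σ).symm (g * faut τ σ k * g⁻¹))
      rw [map_mul, map_mul, map_inv, MulEquiv.apply_symm_apply, MulEquiv.apply_symm_apply]
  exact (Nat.card_congr (Equiv.ofBijective Ψ hbij)).symm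

end Cfsg.Agent.SzB
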