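import Mathlib
import Cfsg.Agent.Lib.SzB.NormalClosure

set_option autoImplicit false

namespace Cfsg.Agent.SzB

variable {F : Type*} [Field F] [Fintype F] [CharP F 2]

/-- A non-trivial additive character invariant under squaring. -/
theorem exists_sq_invariant_char : ∃ φ : AddChar F ℂ, φ ≠ 1 ∧ ∀ x, φ (x ^ 2) = φ x := by
  classical
  let α : F →+ F :=
    { toFun := fun x => x + x ^ 2
      map_zero' := by simp
      map_add' := fun x y => by rw [CharTwo.add_sq]; abel }
  have hker : (α.ker : Set F) = {0, 1} := by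
    ext x
    simp only [SetLike.mem_coe, AddMonoidHom.mem_ker, Set.mem_insert_iff, Set.mem_singleton_iff]
    constructor
    · intro h
      have h' : x + x ^ 2 = 0 := h
      have : x * (1 + x) = 0 := by linear_combination h'
      rcases mul_eq_zero.mp this with h | h
      · exact Or.inl h
      · exact Or.inr (CharTwo.add_eq_zero.mp h).symm
    · rintro (rfl | rfl)
      · exact map_zero α
      · show (1 : F) + 1 ^ 2 = 0
        rw [one_pow]; exact CharTwo.add_self_eq_zero 1
  have hk2 : Nat.card α.ker = 2 := by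
    rw [← SetLike.coe_sort_coe, hker, Nat.card_coe_set_eq, Set.ncard_pair zero_ne_one]
  have hidx : α.range.index = 2 := by
    have h1 := α.range.card_mul_index
    have h2 := α.ker.card_mul_index
    rw [AddSubgroup.index_ker, hk2] at h2
    have hpos : 0 < Nat.card α.range := Nat.card_pos
    nlinarith
  let φ : AddChar F ℂ :=
    { toFun := fun x => if x ∈ α.range then 1 else -1
      map_zero_eq_one' := by simp
      map_add_eq_mul' := fun a b => by
        have h := AddSubgroup.add_mem_iff_of_index_two hidx (a := a) (b := b)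
        by_cases ha : a ∈ α.range <;> by_cases hb : b ∈ α.range <;> simp [h, ha, hb] }
  refine ⟨φ, ?_, ?_⟩
  · intro h
    obtain ⟨x, hx⟩ : ∃ x, x ∉ α.range := by
      by_contra hc
      push Not at hc
      have : α.range = ⊤ := eq_top_iff.mpr fun x _ => hc x
      rw [this, AddSubgroup.index_top] at hidx
      omega
    have := DFunLike.congr_fun h x
    change (if x ∈ α.range then (1 : ℂ) else -1) = 1 at this
    rw [if_neg hx] at this
    norm_num at this
  · intro x
    have hx : x + x ^ 2 ∈ α.range := ⟨x, rfl⟩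
    show (if x ^ 2 ∈ α.range then (1 : ℂ) else -1) = if x ∈ α.range then 1 else -1
    have h := (AddSubgroup.add_mem_iff_of_index_two hidx).mp hx
    simp only [h]

theorem pow_invariant {φ : AddChar F ℂ} (h : ∀ x, φ (x ^ 2) = φ x) (x : F) :
    ∀ n : ℕ, φ (x ^ 2 ^ n) = φ x := by
  intro n
  induction n with
  | zero => simp
  | succ n ih => rw [pow_succ, pow_mul, h, ih]

variable {m : ℕ}

/-- the twist attached to `2 ^ (2 m + 1)` elements -/
def stdTwist (hF : Fintype.card F = 2 ^ (2 * m + 1)) : Twist F where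
  k := m + 1
  e := 2 ^ (m + 1)
  he := rfl
  hsq := fun x => by
    rw [← pow_mul, ← pow_add, show m + 1 + (m + 1) = 2 * m + 1 + 1 by ring, pow_succ, pow_mul, ← hF,
      FiniteField.pow_card]

set_option maxHeartbeats 1000000 in
theorem min_degree_aux (hm : 1 ≤ m) (hF : Fintype.card F = 2 ^ (2 * m + 1)) (τ : Twist F)
    (hθ : ∀ x : F, τ.th x = x ^ 2 ^ (m + 1)) (k : ℕ)
    (ρ : Representation ℂ (Cfsg.Lie.Sz F τ.e) (Fin k → ℂ))
    (hirr : ρ.IsIrreducible) (hk : 2 ≤ k) : 2 ^ m * (2 ^ (2 * m + 1) - 1) ≤ k := by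
  classical
  have hq2 : 2 < Fintype.card F := by
    rw [hF]
    calc 2 = 2 ^ 1 := by norm_num
      _ < 2 ^ (2 * m + 1) := Nat.pow_lt_pow_right (by norm_num) (by omega)
  have hq : ∃ u : Fˣ, u ≠ 1 := by
    have : 1 < Fintype.card Fˣ := by rw [Fintype.card_units]; omega
    exact Fintype.exists_ne_of_one_lt_card this 1
  set T : F → Module.End ℂ (Fin k → ℂ) := fun b => ρ (lS τ 0 b) with hT
  have hTmul : ∀ a b, T a * T b = T (a + b) := fun a b => by
    simp only [hT, ← map_mul, lS_mul, add_zero, map_zero, zero_mul]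
  have hT0 : T 0 = 1 := by rw [hT]; simp only; rw [lS_zero, map_one]
  -- the centre acts non-trivially
  obtain ⟨b0, hb0⟩ : ∃ b, T b ≠ 1 := by
    by_contra hcon
    push Not at hcon
    have htop := eq_top_of_center_le τ hq (MonoidHom.ker ρ) (fun b => MonoidHom.mem_ker.mpr (hcon b))
    have htriv : ∀ g, ρ g = 1 := fun g => MonoidHom.mem_ker.mp (htop ▸ Subgroup.mem_top g)
    have hk0 : 0 < k := by omega
    let v : Fin k → ℂ := Pi.single ⟨0, hk0⟩ 1
    let W : Subrepresentation ρ :=
      ⟨Submodule.span ℂ {v}, fun g w hw => by rw [htriv g]; exact hw⟩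
    have hv : v ≠ 0 := by
      intro h
      have := congrFun h ⟨0, hk0⟩
      simp [v] at this
    rcases (show IsSimpleOrder (Subrepresentation ρ) from hirr).eq_bot_or_eq_top W with h | h
    · have hmem : v ∈ (⊥ : Subrepresentation ρ).toSubmodule := by
        rw [← h]; exact Submodule.subset_span rfl
      exact hv ((Submodule.mem_bot ℂ).mp hmem)
    · have h1 : Module.finrank ℂ (Submodule.span ℂ {v}) = 1 := finrank_span_singleton hv
      have h2 : (Submodule.span ℂ {v}) = ⊤ := congrArg Subrepresentation.toSubmodule h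
      rw [h2, finrank_top, Module.finrank_fin_fun] at h1
      omega
  -- eigenspaces of the centre
  let E : AddChar F ℂ → Submodule ℂ (Fin k → ℂ) := fun ψ =>
    { carrier := {v | ∀ b, T b v = ψ b • v}
      add_mem' := fun {v w} hv hw b => by rw [map_add, hv b, hw b, smul_add]
      zero_mem' := fun b => by simp
      smul_mem' := fun c v hv b => by rw [map_smul, hv b, smul_comm] }
  have hE : ∀ ψ v, v ∈ E ψ ↔ ∀ b, T b v = ψ b • v := fun ψ v => Iff.rfl
  obtain ⟨P, hPdef⟩ : ∃ P : AddChar F ℂ → Module.End ℂ (Fin k → ℂ), P = fun ψ => ∑ b : F, (ψ (-b)) • T b :=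
    ⟨_, rfl⟩
  have hPmem : ∀ ψ v, P ψ v ∈ E ψ := by
    intro ψ v b
    simp only [hPdef, LinearMap.sum_apply, map_sum, Finset.smul_sum, LinearMap.smul_apply, map_smul]
    refine Fintype.sum_equiv (Equiv.addLeft b) _ _ (fun c => ?_)
    rw [← Module.End.mul_apply, hTmul, smul_smul, Equiv.coe_addLeft, ← AddChar.map_add_eq_mul]
    congr 2
    ring
  have horth : ∀ ψ χ : AddChar F ℂ, (∑ b : F, ψ (-b) * χ b) = if χ = ψ then (Fintype.card F : ℂ) else 0 := by
    intro ψ χ
    split_ifs with h
    · subst h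
      simp [← AddChar.map_add_eq_mul]
    · have hne : χ * ψ⁻¹ ≠ 1 := fun h' => h (mul_inv_eq_one.mp h')
      rw [← AddChar.sum_eq_zero_of_ne_one hne]
      refine Finset.sum_congr rfl fun b _ => ?_
      rw [AddChar.mul_apply, AddChar.inv_apply, mul_comm]
  have hPE : ∀ ψ χ, ∀ v ∈ E χ, P ψ v = (if χ = ψ then (Fintype.card F : ℂ) else 0) • v := by
    intro ψ χ v hv
    simp only [hPdef, LinearMap.sum_apply, LinearMap.smul_apply]
    rw [← horth, Finset.sum_smul]
    refine Finset.sum_congr rfl fun b _ => ?_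
    rw [hv b, smul_smul]
  have hcardne : (Fintype.card F : ℂ) ≠ 0 := by exact_mod_cast Fintype.card_ne_zero
  have hsum : ∀ S : Finset (AddChar F ℂ), ∑ ψ ∈ S, Module.finrank ℂ (E ψ) ≤ k := by
    intro S
    let Φ : ((ψ : S) → E ψ) →ₗ[ℂ] (Fin k → ℂ) :=
      ∑ ψ : S, (E ψ).subtype.comp (LinearMap.proj ψ)
    have hinj : Function.Injective Φ := by
      rw [← LinearMap.ker_eq_bot, LinearMap.ker_eq_bot']
      intro x hx
      funext χ
      have h := congrArg (P χ) hx
      rw [map_zero] at h
      simp only [Φ, LinearMap.sum_apply, map_sum] at h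
      rw [Finset.sum_eq_single χ] at h
      · rw [LinearMap.comp_apply, LinearMap.proj_apply, Submodule.subtype_apply,
          hPE _ _ _ (x χ).2, if_pos rfl, smul_eq_zero] at h
        exact Subtype.ext (h.resolve_left hcardne)
      · intro ψ _ hne
        rw [LinearMap.comp_apply, LinearMap.proj_apply, Submodule.subtype_apply,
          hPE _ _ _ (x ψ).2, if_neg (fun h' => hne (Subtype.ext h')), zero_smul]
      · intro h'; exact absurd (Finset.mem_univ χ) h'
    have := LinearMap.finrank_le_finrank_of_injective hinj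
    rw [Module.finrank_pi_fintype, Module.finrank_fin_fun] at this
    rwa [← Finset.sum_coe_sort]
  -- some non-trivial character occurs
  obtain ⟨ψ0, hψ0, hEψ0⟩ : ∃ ψ0 : AddChar F ℂ, ψ0 ≠ 1 ∧ E ψ0 ≠ ⊥ := by
    by_contra hcon
    push Not at hcon
    apply hb0
    refine LinearMap.ext fun v => ?_
    set w := T b0 v - v with hw
    have hz : ∀ ψ : AddChar F ℂ, P ψ w = 0 := by
      intro ψ
      have hT' : ∀ x, P ψ (T b0 x) = T b0 (P ψ x) := by
        intro x
        simp only [hPdef, LinearMap.sum_apply, map_sum, LinearMap.smul_apply, map_smul]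
        refine Finset.sum_congr rfl fun c _ => ?_
        rw [← Module.End.mul_apply, hTmul, ← Module.End.mul_apply (T b0), hTmul, add_comm]
      rw [hw, map_sub, hT', (hPmem ψ v) b0]
      by_cases h : ψ = 1
      · subst h; simp
      · have := hPmem ψ v
        rw [hcon ψ h, Submodule.mem_bot] at this
        simp [this]
    have hall : ∑ ψ : AddChar F ℂ, P ψ w = (Fintype.card F : ℂ) • w := by
      simp only [hPdef, LinearMap.sum_apply, LinearMap.smul_apply]
      rw [Finset.sum_comm, Finset.sum_eq_single (0 : F)]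
      · simp [hT0, AddChar.card_eq, Nat.cast_smul_eq_nsmul]
      · intro b _ hb
        rw [← Finset.sum_smul, AddChar.sum_apply_eq_ite, if_neg (neg_ne_zero.mpr hb), zero_smul]
      · intro h; exact absurd (Finset.mem_univ _) h
    rw [Finset.sum_eq_zero (fun ψ _ => hz ψ), eq_comm, smul_eq_zero] at hall
    exact sub_eq_zero.mp (hall.resolve_left hcardne)
  obtain ⟨φ, hφ, hφsq⟩ := exists_sq_invariant_char (F := F)
  have hprim := AddChar.IsPrimitive.of_ne_one hψ0
  have hbij : Function.Bijective (ψ0.mulShift) :=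
    (Fintype.bijective_iff_injective_and_card _).mpr
      ⟨AddChar.to_mulShift_inj_of_isPrimitive hprim, AddChar.card_eq.symm⟩
  have hθsurj : Function.Surjective τ.th := (Finite.injective_iff_surjective).mp τ.th.injective
  -- transport by the torus
  have htrans : ∀ ψ : AddChar F ℂ, ψ ≠ 1 →
      Module.finrank ℂ (E ψ0) ≤ Module.finrank ℂ (E ψ) := by
    intro ψ hψ
    obtain ⟨s, hs⟩ := hbij.2 ψ
    have hs0 : s ≠ 0 := by rintro rfl; exact hψ (by rw [← hs, AddChar.mulShift_zero])
    obtain ⟨r, hr⟩ := hθsurj s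
    have hr0 : r ≠ 0 := by rintro rfl; exact hs0 (by rw [← hr, map_zero])
    set u := Units.mk0 r hr0
    have hmap : ∀ v ∈ E ψ0, ρ (tS τ u) v ∈ E ψ := by
      intro v hv b
      have e : lS τ 0 b * tS τ u = tS τ u * lS τ 0 (s * b) := by
        have := tS_lS τ u 0 (s * b)
        rw [zero_mul, zero_div, show (u : F) = r from rfl, hr, mul_div_cancel_left₀ _ hs0,
          mul_inv_eq_iff_eq_mul] at this
        exact this.symm
      show ρ (lS τ 0 b) (ρ (tS τ u) v) = ψ b • ρ (tS τ u) v
      rw [← Module.End.mul_apply, ← map_mul, e, map_mul, Module.End.mul_apply]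
      show ρ (tS τ u) (T (s * b) v) = _
      rw [hv (s * b), map_smul, ← hs, AddChar.mulShift_apply]
    refine LinearMap.finrank_le_finrank_of_injective
      (f := ((ρ (tS τ u)).comp (E ψ0).subtype).codRestrict (E ψ) fun v => hmap v v.2) ?_
    intro x y hxy
    have h : ρ (tS τ u) (x : Fin k → ℂ) = ρ (tS τ u) (y : Fin k → ℂ) := congrArg Subtype.val hxy
    have h' := congrArg (ρ (tS τ u)⁻¹) h
    rw [Representation.inv_self_apply, Representation.inv_self_apply] at h'
    exact Subtype.ext h'
  -- the bound on one eigenspace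
  have hbound : ∀ ψ : AddChar F ℂ, (∀ x, ψ (x ^ 2) = ψ x) → ψ ≠ 1 → E ψ ≠ ⊥ →
      2 ^ m ≤ Module.finrank ℂ (E ψ) := by
    intro ψ hinv hψ hne
    have hLE : ∀ a, ∀ v ∈ E ψ, ρ (lS τ a 0) v ∈ E ψ := by
      intro a v hv b
      show ρ (lS τ 0 b) (ρ (lS τ a 0) v) = _
      rw [← Module.End.mul_apply, ← map_mul,
        show lS τ 0 b * lS τ a 0 = lS τ a 0 * lS τ 0 b by rw [lS_mul, lS_mul]; simp [add_comm],
        map_mul, Module.End.mul_apply]
      show ρ (lS τ a 0) (T b v) = _
      rw [hv b, map_smul]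
    let A : F → Module.End ℂ (E ψ) := fun a => (ρ (lS τ a 0)).restrict (hLE a)
    let lam : F →+ F :=
      { toFun := fun x => τ.th x + x ^ 2 ^ m
        map_zero' := by simp
        map_add' := fun x y => by rw [map_add, add_pow_char_pow]; abel }
    have hkey : ∀ x y, ψ (τ.th x * y + τ.th y * x) = ψ (lam x * y) := by
      intro x y
      show _ = ψ ((τ.th x + x ^ 2 ^ m) * y)
      rw [add_mul, AddChar.map_add_eq_mul, AddChar.map_add_eq_mul]
      congr 1
      rw [← pow_invariant hinv (τ.th y * x) m, mul_pow, hθ, ← pow_mul, ← pow_add,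
        show m + 1 + m = 2 * m + 1 by ring, ← hF, FiniteField.pow_card, mul_comm]
    have hcomm : ∀ x y, (A y * A x) = ψ (lam x * y) • (A x * A y) := by
      intro x y
      apply LinearMap.ext
      intro v
      apply Subtype.ext
      show ρ (lS τ y 0) (ρ (lS τ x 0) (v : Fin k → ℂ)) = ψ (lam x * y) • ρ (lS τ x 0) (ρ (lS τ y 0) (v : Fin k → ℂ))
      rw [← hkey, ← Module.End.mul_apply, ← map_mul, ← Module.End.mul_apply, ← map_mul]
      have e : lS τ y 0 * lS τ x 0 = lS τ x 0 * lS τ y 0 * lS τ 0 (τ.th x * y + τ.th y * x) := by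
        rw [lS_mul, lS_mul, lS_mul]
        have h2 : (2 : F) = 0 := CharTwo.two_eq_zero
        congr 1
        · ring
        · simp only [mul_zero, add_zero, zero_add]; linear_combination -(τ.th x * y) * h2
      rw [e, map_mul, Module.End.mul_apply]
      show ρ (lS τ x 0 * lS τ y 0) (T _ (v : Fin k → ℂ)) = _
      rw [v.2 _, map_smul]
    have hkerlam : Nat.card lam.ker ≤ 2 := by
      have hsub : (lam.ker : Set F) ⊆ {0, 1} := by
        intro x hx
        have h1 : τ.th x + x ^ 2 ^ m = 0 := hx
        rw [hθ, pow_succ, pow_mul, CharTwo.add_eq_zero] at h1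
        set y := x ^ 2 ^ m with hy
        have h2 : y * (y - 1) = 0 := by linear_combination h1
        rcases mul_eq_zero.mp h2 with h | h
        · exact Or.inl (eq_zero_of_pow_eq_zero h)
        · right
          have h3 : iterateFrobenius F 2 m x = iterateFrobenius F 2 m 1 := by
            rw [map_one, iterateFrobenius_def]; exact sub_eq_zero.mp h
          exact (iterateFrobenius F 2 m).injective h3
      rw [← SetLike.coe_sort_coe, Nat.card_coe_set_eq]
      exact (Set.ncard_le_ncard hsub (Set.toFinite _)).trans (by rw [Set.ncard_pair zero_ne_one])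
    have hcnt : 2 ^ (2 * m) ≤ Nat.card lam.range := by
      have h2 := lam.ker.card_mul_index
      rw [AddSubgroup.index_ker, Nat.card_eq_fintype_card (α := F), hF, pow_succ] at h2
      have h3 : Nat.card lam.ker * Nat.card lam.range ≤ 2 * Nat.card lam.range :=
        Nat.mul_le_mul_right _ hkerlam
      rw [h2] at h3
      omega
    have hprimψ := AddChar.IsPrimitive.of_ne_one hψ
    haveI : Fintype lam.range := Fintype.ofFinite _
    have hsel : ∀ u : lam.range, ∃ x, lam x = u := fun u => u.2
    choose sel hsel using hsel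
    have hne' : ∀ a, A a ≠ 0 := by
      intro a h
      apply hne
      rw [Submodule.eq_bot_iff]
      intro v hv
      have := congrArg Subtype.val (LinearMap.congr_fun h ⟨v, hv⟩)
      have h' : ρ (lS τ a 0) v = 0 := this
      have h'' := congrArg (ρ (lS τ a 0)⁻¹) h'
      rwa [Representation.inv_self_apply, map_zero] at h''
    have hunit : ∀ a, IsUnit (A a) := by
      intro a
      rw [LinearMap.isUnit_iff_ker_eq_bot, LinearMap.ker_eq_bot']
      intro v hv
      have h' : ρ (lS τ a 0) (v : Fin k → ℂ) = 0 := congrArg Subtype.val hv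
      have h'' := congrArg (ρ (lS τ a 0)⁻¹) h'
      rw [Representation.inv_self_apply, map_zero] at h''
      exact Subtype.ext h''
    have hli : LinearIndependent ℂ (fun u : lam.range => A (sel u)) := by
      refine (Fintype.linearIndependent_iff (R := ℂ) (v := fun u : lam.range => A (sel u))).mpr ?_
      intro c hc u0
      have h1 : ∀ y, ∑ u : lam.range, (c u * ψ ((u : F) * y)) • A (sel u) = 0 := by
        intro y
        have h := congrArg (fun X => A y * X) hc
        simp only [Finset.mul_sum, mul_zero] at h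
        rw [Finset.sum_congr rfl (fun u _ => show A y * (c u • A (sel u)) =
          (c u * ψ ((u : F) * y)) • (A (sel u) * A y) by rw [mul_smul_comm, hcomm, hsel, smul_smul])] at h
        have h' : (∑ u : lam.range, (c u * ψ ((u : F) * y)) • A (sel u)) * A y = 0 := by
          rw [Finset.sum_mul]
          simpa only [smul_mul_assoc] using h
        exact (hunit y).mul_left_eq_zero.mp h'
      have h2 : ∑ y : F, ψ (-((u0 : F) * y)) • ∑ u : lam.range, (c u * ψ ((u : F) * y)) • A (sel u) = 0 := by
        simp [h1]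
      simp only [Finset.smul_sum, smul_smul] at h2
      rw [Finset.sum_comm, Finset.sum_eq_single u0] at h2
      · rw [← Finset.sum_smul, smul_eq_zero] at h2
        have h3 := h2.resolve_right (hne' _)
        rw [Finset.sum_congr rfl (fun y _ => show ψ (-((u0 : F) * y)) * (c u0 * ψ ((u0 : F) * y)) = c u0 by
          rw [mul_left_comm, ← AddChar.map_add_eq_mul, neg_add_cancel, AddChar.map_zero_eq_one, mul_one])] at h3
        simp at h3
        exact h3
      · intro u _ hu
        rw [← Finset.sum_smul]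
        have : ∑ y : F, ψ (-((u0 : F) * y)) * (c u * ψ ((u : F) * y)) = 0 := by
          rw [Finset.sum_congr rfl (fun y _ => show ψ (-((u0 : F) * y)) * (c u * ψ ((u : F) * y)) =
              c u * ψ (((u : F) - u0) * y) by
            rw [mul_left_comm, ← AddChar.map_add_eq_mul]; congr 2; ring), ← Finset.mul_sum]
          have hne2 : (u : F) - u0 ≠ 0 := sub_ne_zero.mpr fun h => hu (Subtype.ext h)
          rw [show (fun y => ψ (((u : F) - u0) * y)) = ⇑(ψ.mulShift ((u : F) - u0)) from rfl,
            AddChar.sum_eq_zero_of_ne_one (hprimψ hne2), mul_zero]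
        rw [this, zero_smul]
      · intro h; exact absurd (Finset.mem_univ _) h
    have h := hli.fintype_card_le_finrank
    rw [← Nat.card_eq_fintype_card] at h
    have h' : Nat.card lam.range ≤ Module.finrank ℂ (E ψ) * Module.finrank ℂ (E ψ) :=
      h.trans (le_of_eq (Module.finrank_linearMap ℂ ℂ (E ψ) (E ψ)))
    have hsq : (2 ^ m) ^ 2 ≤ (Module.finrank ℂ (E ψ)) ^ 2 := by
      rw [← pow_mul, mul_comm, pow_two]; exact hcnt.trans h'
    exact (Nat.pow_le_pow_iff_left (by norm_num)).mp hsq
  have hd0 : 0 < Module.finrank ℂ (E ψ0) := by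
    rw [Module.finrank_pos_iff]
    exact Submodule.nontrivial_iff_ne_bot.mpr hEψ0
  have hEφ : E φ ≠ ⊥ := by
    intro h
    have := htrans φ hφ
    rw [h, finrank_bot] at this
    omega
  have hall : ∀ ψ : AddChar F ℂ, ψ ≠ 1 → 2 ^ m ≤ Module.finrank ℂ (E ψ) := by
    intro ψ hψ
    have hb := hbound φ hφsq hφ hEφ
    -- both eigenspaces are translates of one another
    obtain ⟨s, hs⟩ := hbij.2 φ
    have hs0 : s ≠ 0 := by rintro rfl; exact hφ (by rw [← hs, AddChar.mulShift_zero])
    obtain ⟨s', hs'⟩ := hbij.2 ψ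
    have hs'0 : s' ≠ 0 := by rintro rfl; exact hψ (by rw [← hs', AddChar.mulShift_zero])
    obtain ⟨r, hr⟩ := hθsurj (s' / s)
    have hr0 : r ≠ 0 := by rintro rfl; rw [map_zero] at hr; exact div_ne_zero hs'0 hs0 hr.symm
    set u := Units.mk0 r hr0
    have hφψ : ∀ b, φ (s' / s * b) = ψ b := fun b => by
      rw [← hs, ← hs', AddChar.mulShift_apply, AddChar.mulShift_apply]; congr 1; field_simp
    refine hb.trans (LinearMap.finrank_le_finrank_of_injective
      (f := ((ρ (tS τ u)).comp (E φ).subtype).codRestrict (E ψ) fun v => ?_) ?_)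
    · intro b
      have e : lS τ 0 b * tS τ u = tS τ u * lS τ 0 (s' / s * b) := by
        have := tS_lS τ u 0 (s' / s * b)
        rw [zero_mul, zero_div, show (u : F) = r from rfl, hr,
          mul_div_cancel_left₀ _ (div_ne_zero hs'0 hs0), mul_inv_eq_iff_eq_mul] at this
        exact this.symm
      show ρ (lS τ 0 b) (ρ (tS τ u) (v : Fin k → ℂ)) = ψ b • ρ (tS τ u) (v : Fin k → ℂ)
      rw [← Module.End.mul_apply, ← map_mul, e, map_mul, Module.End.mul_apply]
      show ρ (tS τ u) (T (s' / s * b) (v : Fin k → ℂ)) = _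
      rw [v.2 _, map_smul, hφψ]
    · intro x y hxy
      have h : ρ (tS τ u) (x : Fin k → ℂ) = ρ (tS τ u) (y : Fin k → ℂ) := congrArg Subtype.val hxy
      have h' := congrArg (ρ (tS τ u)⁻¹) h
      rw [Representation.inv_self_apply, Representation.inv_self_apply] at h'
      exact Subtype.ext h'
  have hfin := hsum (Finset.univ.erase (1 : AddChar F ℂ))
  have hle : ∑ ψ ∈ Finset.univ.erase (1 : AddChar F ℂ), 2 ^ m ≤
      ∑ ψ ∈ Finset.univ.erase (1 : AddChar F ℂ), Module.finrank ℂ (E ψ) :=
    Finset.sum_le_sum fun ψ hψ => hall ψ (Finset.ne_of_mem_erase hψ)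
  rw [Finset.sum_const, Finset.card_erase_of_mem (Finset.mem_univ _), Finset.card_univ, AddChar.card_eq, hF,
    smul_eq_mul, mul_comm] at hle
  exact hle.trans hfin

theorem min_degree (hm : 1 ≤ m) (hF : Fintype.card F = 2 ^ (2 * m + 1)) (k : ℕ)
    (ρ : Representation ℂ (Cfsg.Lie.Sz F (stdTwist hF).e) (Fin k → ℂ))
    (hirr : ρ.IsIrreducible) (hk : 2 ≤ k) : 2 ^ m * (2 ^ (2 * m + 1) - 1) ≤ k :=
  min_degree_aux hm hF (stdTwist hF) (fun x => (stdTwist hF).th_apply x) k ρ hirr hk

end Cfsg.Agent.SzB
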