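import Mathlib
import Cfsg.Agent.Lib.SzB.Borel
import Cfsg.Agent.Lib.SzB.MinDegree

set_option autoImplicit false

namespace Cfsg.Agent.SzB

variable {F : Type*} [Field F] [Fintype F] {m : ℕ}

theorem charTwo_of_card (hF : Fintype.card F = 2 ^ (2 * m + 1)) : CharP F 2 := by
  obtain ⟨p, hp⟩ := CharP.exists F
  haveI := hp
  obtain ⟨⟨j, _⟩, hpp, hj⟩ := FiniteField.card F p
  have hj' : 2 ^ (2 * m + 1) = p ^ j := by rw [← hF]; simpa using hj
  have : p ∣ 2 ^ (2 * m + 1) := hj' ▸ dvd_pow_self p (by omega)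
  rwa [(Nat.prime_dvd_prime_iff_eq hpp Nat.prime_two).1 (hpp.dvd_of_dvd_pow this)] at hp

theorem exists_unit_ne (hm : 1 ≤ m) (hF : Fintype.card F = 2 ^ (2 * m + 1)) : ∃ u : Fˣ, u ≠ 1 := by
  classical
  have hq2 : 2 < Fintype.card F := by
    rw [hF]
    calc 2 = 2 ^ 1 := by norm_num
      _ < 2 ^ (2 * m + 1) := Nat.pow_lt_pow_right (by norm_num) (by omega)
  exact Fintype.exists_ne_of_one_lt_card (by rw [Fintype.card_units]; omega) 1

variable [CharP F 2]

theorem factorization_two (hF : Fintype.card F = 2 ^ (2 * m + 1)) (τ : Twist F) :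
    (Nat.card (Cfsg.Lie.Sz F τ.e)).factorization 2 = 2 * (2 * m + 1) := by
  rw [card_group, hF, ← pow_mul, mul_comm (2 * m + 1) 2, mul_assoc]
  have hodd1 : ¬ 2 ∣ (2 ^ (2 * m + 1) - 1) := by
    have : 2 ∣ 2 ^ (2 * m + 1) := dvd_pow_self 2 (by omega)
    have := Nat.two_pow_pos (2 * m + 1)
    omega
  have hodd2 : ¬ 2 ∣ (2 ^ (2 * (2 * m + 1)) + 1) := by
    have : 2 ∣ 2 ^ (2 * (2 * m + 1)) := dvd_pow_self 2 (by omega)
    omega
  have hne : (2 ^ (2 * m + 1) - 1) * (2 ^ (2 * (2 * m + 1)) + 1) ≠ 0 := by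
    intro h
    exact (Nat.prime_two.not_dvd_mul hodd1 hodd2) (h ▸ dvd_zero 2)
  rw [Nat.factorization_mul (by positivity) hne, Finsupp.add_apply, Nat.prime_two.factorization_pow,
    Finsupp.single_eq_same, Nat.factorization_eq_zero_of_not_dvd (Nat.prime_two.not_dvd_mul hodd1 hodd2), add_zero]

/-- the Sylow subgroup -/
noncomputable def sylTwo (hF : Fintype.card F = 2 ^ (2 * m + 1)) (τ : Twist F) :
    Sylow 2 (Cfsg.Lie.Sz F τ.e) :=
  haveI : Fact (Nat.Prime 2) := ⟨Nat.prime_two⟩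
  Sylow.ofCard (unip τ) (by rw [card_unip, factorization_two hF τ, hF, ← pow_mul, mul_comm])

theorem sylTwo_coe (hF : Fintype.card F = 2 ^ (2 * m + 1)) (τ : Twist F) :
    ((sylTwo hF τ : Sylow 2 (Cfsg.Lie.Sz F τ.e)) : Subgroup (Cfsg.Lie.Sz F τ.e)) = unip τ := rfl

/-- the Suzuki group as a two-transitive group with a regular unipotent point stabiliser part -/
theorem structure_statement (hF : Fintype.card F = 2 ^ (2 * m + 1)) (τ : Twist F) :
    ∃ S : Sylow 2 (Cfsg.Lie.Sz F τ.e),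
      Nat.card (Subgroup.normalizer ((S : Subgroup (Cfsg.Lie.Sz F τ.e)) : Set (Cfsg.Lie.Sz F τ.e))) =
        (Fintype.card F) ^ 2 * (Fintype.card F - 1) ∧
      (Subgroup.normalizer ((S : Subgroup (Cfsg.Lie.Sz F τ.e)) : Set (Cfsg.Lie.Sz F τ.e))).index =
        (Fintype.card F) ^ 2 + 1 ∧
      MulAction.IsMultiplyPretransitive (Cfsg.Lie.Sz F τ.e)
        (Cfsg.Lie.Sz F τ.e ⧸ Subgroup.normalizer ((S : Subgroup (Cfsg.Lie.Sz F τ.e)) : Set (Cfsg.Lie.Sz F τ.e))) 2 ∧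
      ∀ x y : Cfsg.Lie.Sz F τ.e ⧸
          Subgroup.normalizer ((S : Subgroup (Cfsg.Lie.Sz F τ.e)) : Set (Cfsg.Lie.Sz F τ.e)),
        x ≠ QuotientGroup.mk 1 → y ≠ QuotientGroup.mk 1 →
          ∃! s : ↥(S : Subgroup (Cfsg.Lie.Sz F τ.e)), (s : Cfsg.Lie.Sz F τ.e) • x = y := by
  refine ⟨sylTwo hF τ, ?_⟩
  rw [sylTwo_coe, normalizer_unip]
  refine ⟨by rw [card_bor, mul_comm], index_bor τ, ?_, ?_⟩
  · -- two-transitivity
    rw [MulAction.is_two_pretransitive_iff]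
    have key : ∀ a b : Cfsg.Lie.Sz F τ.e ⧸ bor τ, a ≠ b →
        ∃ g : Cfsg.Lie.Sz F τ.e, g • (QuotientGroup.mk 1) = a ∧ g • (QuotientGroup.mk (wS τ)) = b := by
      intro a b hab
      induction a using QuotientGroup.induction_on with
      | H x =>
        induction b using QuotientGroup.induction_on with
        | H y =>
          have hne : x⁻¹ * y ∉ bor τ := fun h => hab (QuotientGroup.eq.mpr h)
          obtain ⟨s, t, hst⟩ := exists_cell τ hne
          refine ⟨x * uS τ s t, ?_, ?_⟩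
          · rw [MulAction.Quotient.smul_mk]
            refine QuotientGroup.eq.mpr ?_
            rw [smul_eq_mul, mul_one, mul_inv_rev, inv_mul_cancel_right]
            exact inv_mem (uS_mem_bor τ s t)
          · rw [MulAction.Quotient.smul_mk]
            refine QuotientGroup.eq.mpr ?_
            rw [smul_eq_mul]
            simpa [mul_assoc] using hst
    intro a b c d hab hcd
    obtain ⟨g, hg1, hg2⟩ := key a b hab
    obtain ⟨h, hh1, hh2⟩ := key c d hcd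
    refine ⟨h * g⁻¹, ?_, ?_⟩
    · rw [← hg1, mul_smul, inv_smul_smul, hh1]
    · rw [← hg2, mul_smul, inv_smul_smul, hh2]
  · -- regularity
    intro x y hx hy
    have hcell : ∀ z : Cfsg.Lie.Sz F τ.e ⧸ bor τ, z ≠ QuotientGroup.mk 1 →
        ∃ a b : F, z = QuotientGroup.mk (uS τ a b * wS τ) := by
      intro z hz
      obtain ⟨o, rfl⟩ := (pointEquiv τ).surjective z
      rcases o with _ | ⟨a, b⟩
      · exact absurd (pointEquiv_none τ) hz
      · exact ⟨a, b, rfl⟩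
    obtain ⟨a, b, rfl⟩ := hcell x hx
    obtain ⟨c, e, rfl⟩ := hcell y hy
    refine ⟨⟨uS τ c e * (uS τ a b)⁻¹, mul_mem ⟨c, e, rfl⟩ (inv_mem ⟨a, b, rfl⟩)⟩, ?_, ?_⟩
    · show (uS τ c e * (uS τ a b)⁻¹) • (QuotientGroup.mk (uS τ a b * wS τ) : _ ⧸ bor τ) = _
      rw [MulAction.Quotient.smul_mk, smul_eq_mul, ← mul_assoc, inv_mul_cancel_right]
    · rintro ⟨_, p, r, rfl⟩ hs
      apply Subtype.ext
      have hs' : (uS τ p r) • (QuotientGroup.mk (uS τ a b * wS τ) : _ ⧸ bor τ) =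
          QuotientGroup.mk (uS τ c e * wS τ) := hs
      rw [MulAction.Quotient.smul_mk, smul_eq_mul, ← mul_assoc, uS_mul] at hs'
      obtain ⟨h1, h2⟩ := cell_unique τ (QuotientGroup.eq.mp hs')
      show uS τ p r = uS τ c e * (uS τ a b)⁻¹
      rw [eq_mul_inv_iff_mul_eq, uS_mul, h1, h2]

end Cfsg.Agent.SzB
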